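import Cfsg.Agent.Lib.Lie.Twisted.E6Two.CheckGroup
import Cfsg.Agent.Lib.Lie.Twisted.Inst

set_option autoImplicit false
set_option maxRecDepth 20000

/-!
The twisted group of type E6 over two elements as automorphisms of the rational form of the adjoint module
(owner: helper19).
-/

namespace CfsgLib.Lie.E6Two

open Cfsg.Lie CfsgLib.Lie.Chev
open scoped Matrix MatrixGroups
open Data

theorem beq_eq {a b : ℕ} (h : Nat.beq a b = true) : a = b := Nat.eq_of_beq_eq_true h

theorem blt_lt {a b : ℕ} (h : Nat.blt a b = true) : a < b := Nat.le_of_ble_eq_true h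

theorem pow78_lt {i : ℕ} (hi : i < 78) : 2 ^ i < 2 ^ 78 := Nat.pow_lt_pow_right (by norm_num) hi

theorem alg_facts : (allLt 78 PA = true ∧ allLt 78 PB = true) ∧ (allLt 78 QA = true ∧ allLt 78 QB = true) ∧
    (∀ L ∈ BR, allLt 78 L = true) ∧
    ∀ i < 78, lin QA (PA.getD i 0) ^^^ lin QB (PB.getD i 0) = 2 ^ i ∧
      ∃ e : (Bool × Bool) × ℕ × (Bool × Bool) × ℕ, e.2.1 < 2 ^ 78 ∧ e.2.2.2 < 2 ^ 78 ∧
        (smulP e.1 (pl e.2.1)).1 ^^^ (smulP e.2.2.1 (pl e.2.2.2)).1 = 2 ^ i ∧
        (smulP e.1 (pl e.2.1)).2 ^^^ (smulP e.2.2.1 (pl e.2.2.2)).2 = 0 := by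
  have h := alg_checked
  simp only [algOK, Bool.and_eq_true, List.all_eq_true, List.mem_range] at h
  obtain ⟨⟨a, b, c, d, e⟩, f⟩ := h
  exact ⟨⟨a, b⟩, ⟨c, d⟩, e, fun i hi => by
    obtain ⟨f1, f2, f3, f4, f5⟩ := f i hi
    exact ⟨beq_eq f1, _, blt_lt f2, blt_lt f3, beq_eq f4, beq_eq f5⟩⟩

theorem pl_lt (m : ℕ) : (pl m).1 < 2 ^ 78 ∧ (pl m).2 < 2 ^ 78 :=
  ⟨lin_lt alg_facts.1.1 m, lin_lt alg_facts.1.2 m⟩

theorem row_lt (i : ℕ) : allLt 78 (BR.getD i []) = true := by
  rw [List.getD_eq_getElem?_getD]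
  rcases hi : BR[i]? with _ | a
  · rfl
  · exact alg_facts.2.2.1 a (List.mem_of_getElem? hi)

theorem br_lt (u v : ℕ) : br u v < 2 ^ 78 := go_lt (fun i => lin_lt (row_lt i) v) _ _ _

theorem pl_inj {m m' : ℕ} (hm : m < 2 ^ 78) (hm' : m' < 2 ^ 78) (h : pl m = pl m') : m = m' := by
  have key : ∀ k < 2 ^ 78, lin QA (pl k).1 ^^^ lin QB (pl k).2 = k := fun k hk => by
    refine IsAdd.ext (f := fun k => lin QA (pl k).1 ^^^ lin QB (pl k).2) (g := fun k => k)
      (IsAdd.xor ((isAdd_lin QA).comp (isAdd_lin PA)) ((isAdd_lin QB).comp (isAdd_lin PB))) isAdd_id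
      (fun i hi => ?_) hk
    show lin QA (lin PA (2 ^ i)) ^^^ lin QB (lin PB (2 ^ i)) = 2 ^ i
    rw [lin_single _ (by omega), lin_single _ (by omega)]
    exact (alg_facts.2.2.2 i hi).1
  rw [← key m hm, h, key m' hm']

variable {K : Type*} [Field K]

namespace Four

variable (S : Four K)

/-- A rational vector in the module. -/
noncomputable def ι (m : ℕ) : chevE6.Idx → K := S.vec (pl m)

theorem ι_add (m m' : ℕ) : S.ι (m ^^^ m') = S.ι m + S.ι m' := by
  rw [ι, ι, ι, ← S.vec_add]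
  simp only [pl, lin_xor]

theorem ι_zero : S.ι 0 = 0 := by
  rw [ι, pl, lin_zero, lin_zero, S.vec_zero]

theorem ι_inj {m m' : ℕ} (hm : m < 2 ^ 78) (hm' : m' < 2 ^ 78) (h : S.ι m = S.ι m') : m = m' :=
  pl_inj hm hm' (S.vec_inj h (pl_lt m) (pl_lt m'))

theorem vec_smulP (p : Bool × Bool) (v : ℕ × ℕ) : S.vec (smulP p v) = S.bd p • S.vec v := by
  funext a
  rw [Pi.smul_apply, smul_eq_mul]
  simp only [Four.vec, ← S.bd_mul]
  congr 1
  obtain ⟨p, q⟩ := p
  cases p <;> cases q <;> simp [smulP, bmul, Nat.testBit_xor, Bool.xor_comm] <;>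
    cases v.1.testBit (code chevE6 a) <;> cases v.2.testBit (code chevE6 a) <;> rfl

/-- The rational vectors span. -/
theorem mat_ext {M M' : Matrix chevE6.Idx chevE6.Idx K} (h : ∀ m < 2 ^ 78, M *ᵥ S.ι m = M' *ᵥ S.ι m) :
    M = M' := by
  refine Matrix.ext_iff_mulVec.2 fun v => ?_
  have key : ∀ a : chevE6.Idx, M *ᵥ Pi.single a 1 = M' *ᵥ Pi.single a 1 := by
    intro a
    obtain ⟨e, h1, h2, e1, e2⟩ := (alg_facts.2.2.2 _ (code_lt78 a)).2
    have hs : (Pi.single a (1 : K) : chevE6.Idx → K) = S.vec (2 ^ code chevE6 a, 0) := by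
      funext b
      simp only [Four.vec, Nat.zero_testBit, Nat.testBit_two_pow]
      by_cases hb : b = a
      · subst hb; simp [Four.bd]
      · rw [Pi.single_eq_of_ne hb, decide_eq_false fun e' => hb (code_injective chevE6 e'.symm)]
        exact S.bd_zero.symm
    rw [hs, ← e1, ← e2, S.vec_add, vec_smulP, vec_smulP, Matrix.mulVec_add, Matrix.mulVec_add, Matrix.mulVec_smul,
      Matrix.mulVec_smul, Matrix.mulVec_smul, Matrix.mulVec_smul]
    show _ • M *ᵥ S.ι _ + _ • M *ᵥ S.ι _ = _ • M' *ᵥ S.ι _ + _ • M' *ᵥ S.ι _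
    rw [h _ h1, h _ h2]
  have hv : v = ∑ a, v a • (Pi.single a (1 : K) : chevE6.Idx → K) := by
    funext b; simp [Finset.sum_apply, Pi.single_apply]
  rw [hv, Matrix.mulVec_sum, Matrix.mulVec_sum]
  exact Finset.sum_congr rfl fun a _ => by rw [Matrix.mulVec_smul, Matrix.mulVec_smul, key]

/-- A matrix acting on the rational form by `f`, which preserves the bracket. -/
def Good (M : Matrix chevE6.Idx chevE6.Idx K) : Prop :=
  ∃ f : ℕ → ℕ, (∀ m < 2 ^ 78, f m < 2 ^ 78 ∧ M *ᵥ S.ι m = S.ι (f m)) ∧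
    ∀ u < 2 ^ 78, ∀ v < 2 ^ 78, f (br u v) = br (f u) (f v)

theorem good_one : S.Good 1 := ⟨fun m => m, fun m hm => ⟨hm, Matrix.one_mulVec _⟩, fun _ _ _ _ => rfl⟩

theorem good_mul {M M' : Matrix chevE6.Idx chevE6.Idx K} (h : S.Good M) (h' : S.Good M') : S.Good (M * M') := by
  obtain ⟨f, hf, hb⟩ := h
  obtain ⟨f', hf', hb'⟩ := h'
  refine ⟨fun m => f (f' m), fun m hm => ?_, fun u hu v hv => ?_⟩
  · obtain ⟨a, b⟩ := hf' m hm
    obtain ⟨c, d⟩ := hf _ a
    exact ⟨c, by rw [← Matrix.mulVec_mulVec, b, d]⟩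
  · show f (f' (br u v)) = br (f (f' u)) (f (f' v))
    rw [hb' u hu v hv, hb _ (hf' u hu).1 _ (hf' v hv).1]

theorem gen_spec {k : ℕ} (hk : k < 16) {m : ℕ} (hm : m < 2 ^ 78) :
    chevE6.wordMat K ((GW.getD k []).map fun p => (p.1, S.bd p.2)) *ᵥ S.ι m = S.ι (lin (tb k) m) := by
  have h := (gen_checked hk).1
  simp only [genOK, Bool.and_eq_true, List.all_eq_true, List.mem_range] at h
  obtain ⟨h1, -, h3⟩ := h
  refine ext_add (op := fun a b : chevE6.Idx → K => a + b)
    (f := fun m => chevE6.wordMat K ((GW.getD k []).map fun p => (p.1, S.bd p.2)) *ᵥ S.ι m)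
    (g := fun m => S.ι (lin (tb k) m))
    (fun a b => by show _ *ᵥ S.ι (a ^^^ b) = _; rw [ι_add, Matrix.mulVec_add])
    (fun a b => by show S.ι (lin (tb k) (a ^^^ b)) = _; rw [lin_xor, ι_add])
    (by show _ *ᵥ S.ι 0 = S.ι (lin (tb k) 0); rw [lin_zero, ι_zero, Matrix.mulVec_zero]) 78 (fun i hi => ?_) m hm
  obtain ⟨a, b⟩ := h3 i hi
  show _ *ᵥ S.vec (lin PA (2 ^ i), lin PB (2 ^ i)) = S.vec (pl (lin (tb k) (2 ^ i)))
  rw [lin_single _ (by omega), lin_single _ (by omega), lin_single _ (by omega),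
    S.word_mulVec _ (fun p hp => blt_lt (h1 p hp))]
  exact congrArg S.vec (Prod.ext (beq_eq a) (beq_eq b))

theorem gen_lt {k : ℕ} (hk : k < 16) : allLt 78 (tb k) = true := by
  have h := (gen_checked hk).1
  simp only [genOK, Bool.and_eq_true] at h
  exact h.2.1

theorem gen_br {k : ℕ} (hk : k < 16) {u v : ℕ} (hu : u < 2 ^ 78) (hv : v < 2 ^ 78) :
    lin (tb k) (br u v) = br (lin (tb k) u) (lin (tb k) v) := by
  have h := (gen_checked hk).2
  simp only [brOK, List.all_eq_true, List.mem_range] at h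
  refine IsAdd.ext (f := fun u => lin (tb k) (br u v)) (g := fun u => br (lin (tb k) u) (lin (tb k) v))
    ((isAdd_lin _).comp (isAdd_bil_left BR v))
    (fun a b => by show bil _ (lin _ (a ^^^ b)) _ = _; rw [lin_xor, bil_xor_left]; rfl) (fun i hi => ?_) hu
  refine IsAdd.ext (f := fun v => lin (tb k) (br (2 ^ i) v)) (g := fun v => br (lin (tb k) (2 ^ i)) (lin (tb k) v))
    ((isAdd_lin _).comp (isAdd_bil_right BR _)) ((isAdd_bil_right BR _).comp (isAdd_lin _)) (fun j hj => ?_) hv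
  show lin (tb k) (bil BR (2 ^ i) (2 ^ j)) = br (lin (tb k) (2 ^ i)) (lin (tb k) (2 ^ j))
  rw [bil_single _ (by omega) (by omega), lin_single _ (by omega : i < 128), lin_single _ (by omega : j < 128)]
  exact beq_eq (h i hi j hj)

theorem good_gen {k : ℕ} (hk : k < 16) :
    S.Good (chevE6.wordMat K ((GW.getD k []).map fun p => (p.1, S.bd p.2))) :=
  ⟨lin (tb k), fun _ hm => ⟨lin_lt (gen_lt hk) _, S.gen_spec hk hm⟩, fun _ hu _ hv => gen_br hk hu hv⟩

theorem gw_table : ∀ i < 4, GW.getD i [] = [(([46, 25, 39, 32] : List ℕ).getD i 0, true, false)] := by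
  decide +kernel

/-- The orbit pairs of the generators. -/
def pairs : List (ℕ × ℕ) := [(56, 36), (15, 35), (42, 37), (29, 34)]

/-- The number of a pair generator. -/
def pairIx (i : ℕ) (t : Bool × Bool) : ℕ := 3 + 3 * i + cond t.1 1 0 + cond t.2 2 0

theorem gw_pair_table : ∀ i < 4, ∀ t : Bool × Bool, t ≠ (false, false) → pairIx i t < 16 ∧
    GW.getD (pairIx i t) [] = [((pairs.getD i (0, 0)).1, t), ((pairs.getD i (0, 0)).2, bmul t t)] := by
  decide +kernel

theorem word_zero (w : List (ℕ × K)) (h : ∀ p ∈ w, p.2 = 0) : chevE6.wordMat K w = 1 := by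
  refine List.prod_eq_one fun M hM => ?_
  obtain ⟨p, hp, rfl⟩ := List.mem_map.1 hM
  rw [h p hp, CfsgLib.Lie.Chev.x_zero' certE6 K]

include S in
theorem good_word [Fintype K] (hK : Fintype.card K = 4) {w : List (ℕ × K)} (hw : w ∈ e6Words K 2) :
    S.Good (chevE6.wordMat K w) := by
  rcases hw with ⟨t, ht, r, hr, rfl⟩ | ⟨t, rs, hrs, rfl⟩
  · rcases mul_eq_zero.1 (show t * (t - 1) = 0 by linear_combination ht) with h | h
    · rw [word_zero _ (by simp [h])]; exact S.good_one
    · obtain rfl : t = 1 := sub_eq_zero.1 h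
      obtain ⟨i, hi, rfl⟩ : ∃ i < 4, ([46, 25, 39, 32] : List ℕ).getD i 0 = r := by
        simp only [e6p2, e6m2, e6p4, e6m4, List.mem_cons, List.not_mem_nil, or_false] at hr
        rcases hr with rfl | rfl | rfl | rfl
        exacts [⟨0, by norm_num, rfl⟩, ⟨1, by norm_num, rfl⟩, ⟨2, by norm_num, rfl⟩, ⟨3, by norm_num, rfl⟩]
      have := S.good_gen (k := i) (by omega)
      rwa [gw_table i hi, List.map_cons, List.map_nil, S.bd_one] at this
  · obtain ⟨p, rfl⟩ := S.bd_surj hK t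
    rcases eq_or_ne p (false, false) with rfl | hp
    · rw [word_zero _ (by simp [S.bd_zero])]; exact S.good_one
    · obtain ⟨i, hi, rfl⟩ : ∃ i < 4, pairs.getD i (0, 0) = rs := by
        simp only [e6p1, e6p6, e6m1, e6m6, e6p3, e6p5, e6m3, e6m5, List.mem_cons, List.not_mem_nil, or_false] at hrs
        rcases hrs with rfl | rfl | rfl | rfl
        exacts [⟨0, by norm_num, rfl⟩, ⟨1, by norm_num, rfl⟩, ⟨2, by norm_num, rfl⟩, ⟨3, by norm_num, rfl⟩]
      obtain ⟨h16, he⟩ := gw_pair_table i hi p hp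
      have := S.good_gen h16
      rw [he] at this
      rw [pow_two]
      simpa only [List.map_cons, List.map_nil, S.bd_mul] using this

/-- The group. -/
abbrev E (K : Type*) [Field K] : Type _ := ↥(twistedE6 K 2)

/-- The matrix of an element. -/
abbrev mt (g : E K) : Matrix chevE6.Idx chevE6.Idx K := ((g : GL chevE6.Idx K) : Matrix chevE6.Idx chevE6.Idx K)

include S in
theorem good_all [Fintype K] (hK : Fintype.card K = 4) (g : E K) : S.Good (mt g) := by
  classical
  obtain ⟨g, hg⟩ := g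
  show S.Good (g : Matrix chevE6.Idx chevE6.Idx K)
  have hpow : ∀ (M : Matrix chevE6.Idx chevE6.Idx K), S.Good M → ∀ n : ℕ, S.Good (M ^ n) := fun M hM n => by
    induction n with
    | zero => rw [pow_zero]; exact S.good_one
    | succ n ih => rw [pow_succ]; exact S.good_mul ih hM
  induction hg using Subgroup.closure_induction with
  | mem y hy =>
    obtain ⟨w, hw, e⟩ := hy
    rw [e]
    exact S.good_word hK hw
  | one => rw [Units.val_one]; exact S.good_one
  | mul a b _ _ iha ihb => rw [Units.val_mul]; exact S.good_mul iha ihb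
  | inv a _ ih =>
    have e : a⁻¹ = a ^ (orderOf a - 1) := by
      rw [inv_eq_iff_mul_eq_one, ← pow_succ']
      rw [Nat.sub_add_cancel (orderOf_pos a)]
      exact pow_orderOf_eq_one a
    rw [e, Units.val_pow_eq_pow_val]
    exact hpow _ ih _

end Four

/-! ### The action -/

variable [Fintype K] (S : Four K) (hK : Fintype.card K = 4)

/-- The action on the rational form. -/
noncomputable def Four.act (g : Four.E K) : ℕ → ℕ := (S.good_all hK g).choose

variable {S hK}

theorem act_lt {g : Four.E K} {m : ℕ} (hm : m < 2 ^ 78) : S.act hK g m < 2 ^ 78 :=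
  ((S.good_all hK g).choose_spec.1 m hm).1

theorem act_spec {g : Four.E K} {m : ℕ} (hm : m < 2 ^ 78) : Four.mt g *ᵥ S.ι m = S.ι (S.act hK g m) :=
  ((S.good_all hK g).choose_spec.1 m hm).2

theorem act_br {g : Four.E K} {u v : ℕ} (hu : u < 2 ^ 78) (hv : v < 2 ^ 78) :
    S.act hK g (br u v) = br (S.act hK g u) (S.act hK g v) :=
  (S.good_all hK g).choose_spec.2 u hu v hv

theorem act_unique {g : Four.E K} {m n : ℕ} (hm : m < 2 ^ 78) (hn : n < 2 ^ 78)
    (h : Four.mt g *ᵥ S.ι m = S.ι n) : S.act hK g m = n :=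
  S.ι_inj (act_lt hm) hn ((act_spec hm).symm.trans h)

theorem act_mul (g h : Four.E K) {m : ℕ} (hm : m < 2 ^ 78) :
    S.act hK (g * h) m = S.act hK g (S.act hK h m) :=
  act_unique hm (act_lt (act_lt hm)) (by
    show ((g * h : Four.E K) : GL chevE6.Idx K).1 *ᵥ _ = _
    rw [Subgroup.coe_mul, Units.val_mul, ← Matrix.mulVec_mulVec, act_spec (hK := hK) hm, act_spec (hK := hK) (act_lt hm)])

theorem act_one {m : ℕ} (hm : m < 2 ^ 78) : S.act hK (1 : Four.E K) m = m :=
  act_unique hm hm (by rw [Four.mt, OneMemClass.coe_one, Units.val_one, Matrix.one_mulVec])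

theorem act_inv (g : Four.E K) {m : ℕ} (hm : m < 2 ^ 78) : S.act hK g⁻¹ (S.act hK g m) = m := by
  rw [← act_mul _ _ hm, inv_mul_cancel, act_one hm]

theorem act_inv' (g : Four.E K) {m : ℕ} (hm : m < 2 ^ 78) : S.act hK g (S.act hK g⁻¹ m) = m := by
  rw [← act_mul _ _ hm, mul_inv_cancel, act_one hm]

theorem act_inj (g : Four.E K) {m n : ℕ} (hm : m < 2 ^ 78) (hn : n < 2 ^ 78)
    (h : S.act hK g m = S.act hK g n) : m = n := by
  rw [← act_inv (S := S) (hK := hK) g hm, h, act_inv g hn]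

theorem act_xor (g : Four.E K) {m n : ℕ} (hm : m < 2 ^ 78) (hn : n < 2 ^ 78) :
    S.act hK g (m ^^^ n) = S.act hK g m ^^^ S.act hK g n :=
  act_unique (Nat.xor_lt_two_pow hm hn) (Nat.xor_lt_two_pow (act_lt hm) (act_lt hn)) (by
    rw [S.ι_add, S.ι_add, Matrix.mulVec_add, act_spec (hK := hK) hm, act_spec (hK := hK) hn])

theorem act_zero (g : Four.E K) : S.act hK g 0 = 0 := by
  have := act_xor (S := S) (hK := hK) g (m := 0) (n := 0) (by norm_num) (by norm_num)
  rwa [Nat.xor_self, Nat.xor_self] at this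

theorem eq_of_act {g h : Four.E K} (e : ∀ m < 2 ^ 78, S.act hK g m = S.act hK h m) : g = h :=
  Subtype.ext (Units.ext (S.mat_ext fun m hm => by
    show Four.mt g *ᵥ S.ι m = Four.mt h *ᵥ S.ι m
    rw [act_spec (hK := hK) hm, act_spec (hK := hK) hm, e m hm]))

/-- An additive function agreeing with an element on a basis is its action. -/
theorem act_eq_of_basis (g : Four.E K) {f : ℕ → ℕ} (hf : IsAdd f)
    (h : ∀ i < 78, S.act hK g (2 ^ i) = f (2 ^ i)) {m : ℕ} (hm : m < 2 ^ 78) : S.act hK g m = f m := by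
  have key : ∀ n ≤ 78, ∀ m < 2 ^ n, S.act hK g m = f m := by
    intro n
    induction n with
    | zero =>
      intro _ m hm
      obtain rfl : m = 0 := by simpa using hm
      rw [act_zero, hf.map_zero]
    | succ n ih =>
      intro hn m hm
      obtain ⟨a, ha, rfl | rfl⟩ := split_top hm
      · exact ih (by omega) _ ha
      · rw [act_xor g (ha.trans_le (Nat.pow_le_pow_right (by norm_num) (by omega))) (pow78_lt (by omega)), hf,
          ih (by omega) _ ha, h n (by omega)]
  exact key 78 le_rfl m hm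

/-! ### The tabulated elements -/

theorem exists_elt : ∀ k < 240, ∃ g : Four.E K, ∀ m < 2 ^ 78, S.act hK g m = lin (tb k) m := by
  intro k
  induction k using Nat.strong_induction_on with
  | _ k ih =>
    intro hk
    rcases lt_or_ge k 16 with h16 | h16
    · have hmem : ∃ g : Four.E K, Four.mt g = chevE6.wordMat K ((GW.getD k []).map fun p => (p.1, S.bd p.2)) := by
        refine ⟨⟨(wordG certE6 ((GW.getD k []).map fun p => (p.1, S.bd p.2)) : ↥(chevE6.group K)), ?_⟩, ?_⟩
        · refine wordG_mem certE6 ?_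
          rcases lt_or_ge k 4 with h4 | h4
          · rw [Four.gw_table k h4]
            refine Or.inl ⟨1, one_pow _, ([46, 25, 39, 32] : List ℕ).getD k 0, ?_, ?_⟩
            · interval_cases k <;> decide
            · simp [S.bd_one]
          · obtain ⟨i, hi, t, ht, rfl⟩ : ∃ i < 4, ∃ t : Bool × Bool, t ≠ (false, false) ∧ Four.pairIx i t = k :=
              (show ∀ k < 16, 4 ≤ k → ∃ i < 4, ∃ t : Bool × Bool, t ≠ (false, false) ∧ Four.pairIx i t = k by
                decide) k h16 h4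
            rw [(Four.gw_pair_table i hi t ht).2]
            refine Or.inr ⟨S.bd t, Four.pairs.getD i (0, 0), ?_, ?_⟩
            · interval_cases i <;> decide
            · simp [S.bd_mul, pow_two]
        · exact wordG_val certE6 _
      obtain ⟨g, hg⟩ := hmem
      exact ⟨g, fun m hm => act_unique hm (lin_lt (Four.gen_lt h16) _) (by rw [hg]; exact S.gen_spec h16 hm)⟩
    · have hp := prog_checked (j := (k - 16) / 56) (by omega)
      simp only [progPart, List.all_eq_true, List.mem_range'_1, Bool.and_eq_true, List.mem_range] at hp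
      obtain ⟨ha, hb, -, hc⟩ := hp k (by omega)
      obtain ⟨g, hg⟩ := ih _ (blt_lt ha) (by have := blt_lt ha; omega)
      obtain ⟨g', hg'⟩ := ih _ (blt_lt hb) (by have := blt_lt hb; omega)
      refine ⟨g * g', fun m hm => act_eq_of_basis _ (isAdd_lin _) (fun i hi => ?_) hm⟩
      rw [act_mul _ _ (pow78_lt hi), hg _ (act_lt (pow78_lt hi)), hg' _ (pow78_lt hi), lin_single _ (by omega),
        lin_single _ (by omega)]
      exact (beq_eq (hc i hi)).symm

variable (S hK)

/-- A tabulated element. -/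
noncomputable def Four.el (k : ℕ) : Four.E K :=
  if h : k < 240 then ((exists_elt (S := S) (hK := hK)) k h).choose else 1

variable {S hK}

theorem act_el {k : ℕ} (hk : k < 240) {m : ℕ} (hm : m < 2 ^ 78) : S.act hK (S.el hK k) m = lin (tb k) m := by
  rw [Four.el, dif_pos hk]
  exact ((exists_elt (S := S) (hK := hK)) k hk).choose_spec m hm

end CfsgLib.Lie.E6Two
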