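import Cfsg.Agent.Lib.Lie.Twisted.E6Two.CheckFinal
import Cfsg.Agent.Lib.Lie.Twisted.E6Two.Act

set_option autoImplicit false
set_option maxRecDepth 20000

/-!
The six involutions generate the alternating group on eight letters (owner: helper19).
-/

namespace CfsgLib.Lie.E6Two

open Data

theorem f8P_apply {i : ℕ} (hi : i < 105) (a : Fin 8) : ((f8P i a : Fin 8) : ℕ) = (f8.getD i []).getD a 0 := by
  obtain ⟨-, h⟩ := f8_inv i hi
  have hinv : ∀ b : Fin 8, (fun b : Fin 8 => (⟨(f8.getD i []).getD b 0 % 8, Nat.mod_lt _ (by norm_num)⟩ : Fin 8))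
      ((fun b : Fin 8 => (⟨(f8.getD i []).getD b 0 % 8, Nat.mod_lt _ (by norm_num)⟩ : Fin 8)) b) = b := fun b => by
    refine Fin.ext ?_
    show (f8.getD i []).getD ((f8.getD i []).getD b 0 % 8) 0 % 8 = b
    rw [Nat.mod_eq_of_lt (h b).1, (h b).2, Nat.mod_eq_of_lt b.2]
  rw [f8P, permL, dif_pos hinv]
  show (f8.getD i []).getD a 0 % 8 = _
  rw [Nat.mod_eq_of_lt (h a).1]

theorem f8P_inj {i k : ℕ} (hi : i < 105) (hk : k < 105) (h : f8P i = f8P k) : i = k := by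
  have e : f8.getD i [] = f8.getD k [] := by
    refine List.ext_getElem ((f8_inv i hi).1.trans (f8_inv k hk).1.symm) fun n h1 h2 => ?_
    have h8 : n < 8 := (f8_inv i hi).1 ▸ h1
    have := congrArg (fun σ : Equiv.Perm (Fin 8) => ((σ ⟨n, h8⟩ : Fin 8) : ℕ)) h
    simp only [f8P_apply hi, f8P_apply hk] at this
    rwa [List.getD_eq_getElem _ _ h1, List.getD_eq_getElem _ _ h2] at this
  have hnd := f8_inj
  rw [List.nodup_map_iff_inj_on List.nodup_range] at hnd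
  exact hnd i (List.mem_range.2 hi) k (List.mem_range.2 hk) (by rw [e])

theorem alt_facts : (∀ g < 6, Equiv.Perm.sign (p8P g) = 1 ∧ ∃ i < 105, p8P g = f8P i) ∧
    ((∀ g ∈ cyc, g < 6) ∧ (cyc.map p8P).prod = triP 0) ∧
    ∀ n, 1 ≤ n → n < 336 → (tripar.getD n (0, 0)).1 < n ∧ (tripar.getD n (0, 0)).2 < 6 ∧
      p8P (tripar.getD n (0, 0)).2 * triP (tripar.getD n (0, 0)).1 = triP n * p8P (tripar.getD n (0, 0)).2 := by
  have h := alt_checked
  simp only [altOK, Bool.and_eq_true, List.all_eq_true, List.mem_range, List.any_eq_true, decide_eq_true_eq,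
    List.mem_range'_1] at h
  obtain ⟨a, ⟨b, b'⟩, c⟩ := h
  exact ⟨fun g hg => a g hg, ⟨fun g hg => blt_lt (b g hg), b'⟩,
    fun n h1 h2 => ⟨blt_lt (c n ⟨h1, by omega⟩).1, blt_lt (c n ⟨h1, by omega⟩).2.1, (c n ⟨h1, by omega⟩).2.2⟩⟩

/-- The group on eight letters. -/
noncomputable def H8 : Subgroup (Equiv.Perm (Fin 8)) := Subgroup.closure {σ | ∃ g < 6, σ = p8P g}

theorem p8P_mem {g : ℕ} (hg : g < 6) : p8P g ∈ H8 := Subgroup.subset_closure ⟨g, hg, rfl⟩

theorem triP_mem : ∀ n < 336, triP n ∈ H8 := by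
  intro n
  induction n using Nat.strong_induction_on with
  | _ n ih =>
    intro hn
    rcases Nat.eq_zero_or_pos n with rfl | h0
    · rw [← alt_facts.2.1.2]
      refine Subgroup.list_prod_mem _ fun σ hσ => ?_
      obtain ⟨g, hg, rfl⟩ := List.mem_map.1 hσ
      exact p8P_mem (alt_facts.2.1.1 g hg)
    · obtain ⟨h1, h2, h3⟩ := alt_facts.2.2 n h0 hn
      rw [show triP n = p8P (tripar.getD n (0, 0)).2 * triP (tripar.getD n (0, 0)).1 * (p8P (tripar.getD n (0, 0)).2)⁻¹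
        from eq_mul_inv_of_mul_eq h3.symm]
      exact mul_mem (mul_mem (p8P_mem h2) (ih _ h1 (by omega))) (inv_mem (p8P_mem h2))

theorem cyc3_mem {a b c : Fin 8} (hab : a ≠ b) (hbc : b ≠ c) (hac : a ≠ c) : cyc3 a b c ∈ H8 := by
  obtain ⟨n, hn, e⟩ := tri_cover a b c hab hbc hac
  have h := triP_mem n hn
  simp only [triP, e, Nat.mod_eq_of_lt a.2, Nat.mod_eq_of_lt b.2, Nat.mod_eq_of_lt c.2] at h
  exact h

theorem eq_cyc3 {σ : Equiv.Perm (Fin 8)} (h : σ.IsThreeCycle) :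
    ∃ a b c, a ≠ b ∧ b ≠ c ∧ a ≠ c ∧ σ = cyc3 a b c := by
  have h3 : σ ^ 3 = 1 := by rw [← h.orderOf]; exact pow_orderOf_eq_one σ
  have hσ3 : ∀ x, σ (σ (σ x)) = x := fun x => by
    have := congrArg (fun τ : Equiv.Perm (Fin 8) => τ x) h3
    simpa [pow_succ] using this
  obtain ⟨a, ha⟩ : σ.support.Nonempty := by rw [← Finset.card_pos, h.card_support]; norm_num
  have ha' : σ a ≠ a := Equiv.Perm.mem_support.1 ha
  have hb : σ (σ a) ≠ σ a := fun e => ha' (σ.injective e)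
  have hc : σ (σ a) ≠ a := fun e => ha' (by have := hσ3 a; rw [e] at this; exact this)
  have hsupp : σ.support = {a, σ a, σ (σ a)} := by
    refine (Finset.eq_of_subset_of_card_le (fun x hx => ?_) ?_).symm
    · simp only [Finset.mem_insert, Finset.mem_singleton] at hx
      rcases hx with rfl | rfl | rfl <;> rw [Equiv.Perm.mem_support]
      exacts [ha', hb, fun e => hb (σ.injective e)]
    · rw [h.card_support, Finset.card_eq_three.2 ⟨_, _, _, Ne.symm ha', Ne.symm hc, Ne.symm hb, rfl⟩]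
  refine ⟨a, σ a, σ (σ a), Ne.symm ha', Ne.symm hb, Ne.symm hc, Equiv.ext fun x => ?_⟩
  by_cases hx : x ∈ σ.support
  · rw [hsupp] at hx
    simp only [Finset.mem_insert, Finset.mem_singleton] at hx
    rcases hx with rfl | rfl | rfl
    · simp only [cyc3, Equiv.Perm.mul_apply]
      rw [Equiv.swap_apply_of_ne_of_ne (Ne.symm ha') (Ne.symm hc), Equiv.swap_apply_left]
    · simp only [cyc3, Equiv.Perm.mul_apply]
      rw [Equiv.swap_apply_left, Equiv.swap_apply_of_ne_of_ne hc hb]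
    · simp only [cyc3, Equiv.Perm.mul_apply]
      rw [Equiv.swap_apply_right, Equiv.swap_apply_right, hσ3]
  · have e : σ x = x := Equiv.Perm.notMem_support.1 hx
    rw [hsupp] at hx
    simp only [Finset.mem_insert, Finset.mem_singleton, not_or] at hx
    simp only [cyc3, Equiv.Perm.mul_apply]
    rw [e, Equiv.swap_apply_of_ne_of_ne hx.2.1 hx.2.2, Equiv.swap_apply_of_ne_of_ne hx.1 hx.2.1]

theorem H8_eq : H8 = alternatingGroup (Fin 8) := by
  refine le_antisymm ((Subgroup.closure_le _).2 ?_) ?_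
  · rintro _ ⟨g, hg, rfl⟩
    exact (alt_facts.1 g hg).1
  · rw [← Equiv.Perm.closure_three_cycles_eq_alternating, Subgroup.closure_le]
    intro σ hσ
    obtain ⟨a, b, c, h1, h2, h3, rfl⟩ := eq_cyc3 hσ
    exact cyc3_mem h1 h2 h3

/-- Only the identity commutes with all the involutions. -/
theorem eq_one_of_comm {σ : Equiv.Perm (Fin 8)} (h : ∀ i < 105, Commute σ (f8P i)) : σ = 1 := by
  have hH : H8 ≤ Subgroup.centralizer {σ} := by
    rw [H8, Subgroup.closure_le]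
    rintro _ ⟨g, hg, rfl⟩
    obtain ⟨i, hi, e⟩ := (alt_facts.1 g hg).2
    rw [SetLike.mem_coe, Subgroup.mem_centralizer_singleton_iff, e]
    exact (h i hi).eq.symm
  have key : ∀ a b c : Fin 8, a ≠ b → b ≠ c → a ≠ c → ∀ x, cyc3 a b c x ≠ x → cyc3 a b c (σ x) ≠ σ x := by
    intro a b c h1 h2 h3 x hx e
    have hc := Subgroup.mem_centralizer_singleton_iff.1 (hH (cyc3_mem h1 h2 h3))
    refine hx (σ.injective ?_)
    rw [← Equiv.Perm.mul_apply, ← hc, Equiv.Perm.mul_apply, e]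
  have hd : ∀ a : Fin 8, (a ≠ a + 1 ∧ a + 1 ≠ a + 2 ∧ a ≠ a + 2 ∧ cyc3 a (a + 1) (a + 2) a ≠ a) ∧
      (a ≠ a + 3 ∧ a + 3 ≠ a + 4 ∧ a ≠ a + 4 ∧ cyc3 a (a + 3) (a + 4) a ≠ a) := by decide +kernel
  refine Equiv.ext fun a => ?_
  obtain ⟨⟨a1, a2, a3, a4⟩, b1, b2, b3, b4⟩ := hd a
  exact two_triples a (σ a) (key _ _ _ a1 a2 a3 a a4) (key _ _ _ b1 b2 b3 a b4)

end CfsgLib.Lie.E6Two
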