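import Mathlib

set_option autoImplicit false

/-!
Linear maps of bit vectors over the field with two elements, given by tables (owner: helper19).
-/

namespace CfsgLib.Lie.E6Two

/-- The sum of the `c (b + i)` over the bits `i < 2 ^ k` of `m`. -/
def go (c : ℕ → ℕ) : ℕ → ℕ → ℕ → ℕ
  | 0, b, m => cond (Nat.testBit m 0) (c b) 0
  | _ + 1, _, 0 => 0
  | k + 1, b, n + 1 => go c k b ((n + 1) % 2 ^ 2 ^ k) ^^^ go c k (b + 2 ^ k) ((n + 1) >>> 2 ^ k)

/-- The linear map with the listed images of the basis vectors. -/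
def lin (L : List ℕ) (m : ℕ) : ℕ := go (fun i => L.getD i 0) 7 0 m

/-- The bilinear map with the listed rows. -/
def bil (B : List (List ℕ)) (u v : ℕ) : ℕ := go (fun i => lin (B.getD i []) v) 7 0 u

variable {c d : ℕ → ℕ}

theorem go_zero : ∀ k b, go c k b 0 = 0
  | 0, b => rfl
  | k + 1, b => rfl

theorem go_succ (k b m : ℕ) :
    go c (k + 1) b m = go c k b (m % 2 ^ 2 ^ k) ^^^ go c k (b + 2 ^ k) (m >>> 2 ^ k) := by
  cases m with
  | zero => simp [go, go_zero]
  | succ n => rfl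

theorem go_xor : ∀ k b m m', go c k b (m ^^^ m') = go c k b m ^^^ go c k b m'
  | 0, b, m, m' => by
    simp only [go, Nat.testBit_xor]
    cases Nat.testBit m 0 <;> cases Nat.testBit m' 0 <;> simp
  | k + 1, b, m, m' => by
    simp only [go_succ, Nat.xor_mod_two_pow, Nat.shiftRight_xor_distrib, go_xor k]
    ac_rfl

theorem go_add : ∀ k b m, go (fun i => c i ^^^ d i) k b m = go c k b m ^^^ go d k b m
  | 0, b, m => by
    simp only [go]
    cases Nat.testBit m 0 <;> simp
  | k + 1, b, m => by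
    simp only [go_succ, go_add k]
    ac_rfl

theorem go_single : ∀ k b i, i < 2 ^ k → go c k b (2 ^ i) = c (b + i)
  | 0, b, i, h => by
    obtain rfl : i = 0 := by simpa using h
    rfl
  | k + 1, b, i, h => by
    rw [go_succ]
    rcases lt_or_ge i (2 ^ k) with hi | hi
    · rw [Nat.mod_eq_of_lt (Nat.pow_lt_pow_right (by norm_num) hi), go_single k b i hi,
        Nat.shiftRight_eq_div_pow, Nat.div_eq_of_lt (Nat.pow_lt_pow_right (by norm_num) hi), go_zero, Nat.xor_zero]
    · obtain ⟨j, rfl⟩ := Nat.exists_eq_add_of_le hi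
      rw [pow_add, Nat.mul_mod_right, go_zero, Nat.zero_xor, Nat.shiftRight_eq_div_pow,
        Nat.mul_div_cancel_left _ (Nat.two_pow_pos _), go_single k _ j (by rw [pow_succ] at h; omega), add_assoc]

theorem go_lt {n : ℕ} (hc : ∀ i, c i < 2 ^ n) : ∀ k b m, go c k b m < 2 ^ n
  | 0, b, m => by
    simp only [go]
    cases Nat.testBit m 0
    exacts [Nat.two_pow_pos n, hc b]
  | k + 1, b, m => by
    rw [go_succ]
    exact Nat.xor_lt_two_pow (go_lt hc k _ _) (go_lt hc k _ _)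

theorem lin_zero (L : List ℕ) : lin L 0 = 0 := go_zero _ _

theorem lin_xor (L : List ℕ) (m m' : ℕ) : lin L (m ^^^ m') = lin L m ^^^ lin L m' := go_xor _ _ _ _

theorem lin_single (L : List ℕ) {i : ℕ} (hi : i < 128) : lin L (2 ^ i) = L.getD i 0 := by
  rw [lin, go_single _ _ _ hi, zero_add]

/-- All entries below `2 ^ n`. -/
def allLt (n : ℕ) (L : List ℕ) : Bool := L.all fun a => Nat.blt a (2 ^ n)

theorem getD_lt {n : ℕ} {L : List ℕ} (h : allLt n L = true) (i : ℕ) : L.getD i 0 < 2 ^ n := by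
  rw [List.getD_eq_getElem?_getD]
  rcases hi : L[i]? with _ | a
  · exact Nat.two_pow_pos n
  · exact Nat.le_of_ble_eq_true (List.all_eq_true.1 h a (List.mem_of_getElem? hi))

theorem lin_lt {n : ℕ} {L : List ℕ} (h : allLt n L = true) (m : ℕ) : lin L m < 2 ^ n := go_lt (getD_lt h) _ _ _

theorem bil_zero_left (B : List (List ℕ)) (v : ℕ) : bil B 0 v = 0 := go_zero _ _

theorem bil_xor_left (B : List (List ℕ)) (u u' v : ℕ) : bil B (u ^^^ u') v = bil B u v ^^^ bil B u' v :=
  go_xor _ _ _ _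

theorem bil_xor_right (B : List (List ℕ)) (u v v' : ℕ) : bil B u (v ^^^ v') = bil B u v ^^^ bil B u v' := by
  simp only [bil, lin_xor, go_add]

theorem bil_single (B : List (List ℕ)) {i j : ℕ} (hi : i < 128) (hj : j < 128) :
    bil B (2 ^ i) (2 ^ j) = (B.getD i []).getD j 0 := by
  rw [bil, go_single _ _ _ hi, zero_add, lin_single _ hj]

/-- A function commuting with the sum. -/
def IsAdd (f : ℕ → ℕ) : Prop := ∀ a b, f (a ^^^ b) = f a ^^^ f b

theorem IsAdd.map_zero {f : ℕ → ℕ} (hf : IsAdd f) : f 0 = 0 := by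
  have := hf 0 0
  rwa [Nat.xor_self, Nat.xor_self] at this

theorem isAdd_lin (L : List ℕ) : IsAdd (lin L) := lin_xor L

theorem IsAdd.comp {f g : ℕ → ℕ} (hf : IsAdd f) (hg : IsAdd g) : IsAdd fun m => f (g m) := fun a b => by
  show f (g (a ^^^ b)) = _
  rw [hg, hf]

theorem IsAdd.xor {f g : ℕ → ℕ} (hf : IsAdd f) (hg : IsAdd g) : IsAdd fun m => f m ^^^ g m := fun a b => by
  show f (a ^^^ b) ^^^ g (a ^^^ b) = (f a ^^^ g a) ^^^ (f b ^^^ g b)
  rw [hf, hg]
  ac_rfl

theorem isAdd_id : IsAdd fun m => m := fun _ _ => rfl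

theorem isAdd_bil_left (B : List (List ℕ)) (v : ℕ) : IsAdd fun u => bil B u v := fun a b => bil_xor_left B a b v

theorem isAdd_bil_right (B : List (List ℕ)) (u : ℕ) : IsAdd (bil B u) := fun a b => bil_xor_right B u a b

theorem split_top {n m : ℕ} (h : m < 2 ^ (n + 1)) :
    ∃ a < 2 ^ n, m = a ∨ m = a ^^^ 2 ^ n := by
  refine ⟨m % 2 ^ n, Nat.mod_lt _ (Nat.two_pow_pos n), ?_⟩
  cases hb : Nat.testBit m n
  · refine Or.inl (Nat.eq_of_testBit_eq fun i => ?_)
    rw [Nat.testBit_mod_two_pow]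
    rcases lt_trichotomy i n with hi | rfl | hi
    · simp [hi]
    · simp [hb]
    · rw [Nat.testBit_lt_two_pow (h.trans_le (Nat.pow_le_pow_right (by norm_num) hi))]
      simp
  · refine Or.inr (Nat.eq_of_testBit_eq fun i => ?_)
    rw [Nat.testBit_xor, Nat.testBit_mod_two_pow, Nat.testBit_two_pow]
    rcases lt_trichotomy i n with hi | rfl | hi
    · simp [hi, hi.ne']
    · simp [hb]
    · rw [Nat.testBit_lt_two_pow (h.trans_le (Nat.pow_le_pow_right (by norm_num) hi))]
      simp [hi.ne, hi.not_gt]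

/-- Two sums agreeing on a basis agree. -/
theorem ext_add {α : Type*} {f g : ℕ → α} {op : α → α → α} (hf : ∀ a b, f (a ^^^ b) = op (f a) (f b))
    (hg : ∀ a b, g (a ^^^ b) = op (g a) (g b)) (h0 : f 0 = g 0) :
    ∀ n, (∀ i < n, f (2 ^ i) = g (2 ^ i)) → ∀ m < 2 ^ n, f m = g m
  | 0, _, m, hm => by
    obtain rfl : m = 0 := by simpa using hm
    exact h0
  | n + 1, h, m, hm => by
    obtain ⟨a, ha, rfl | rfl⟩ := split_top hm
    · exact ext_add hf hg h0 n (fun i hi => h i (by omega)) _ ha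
    · rw [hf, hg, ext_add hf hg h0 n (fun i hi => h i (by omega)) _ ha, h n (by omega)]

theorem IsAdd.ext {f g : ℕ → ℕ} (hf : IsAdd f) (hg : IsAdd g) {n : ℕ} (h : ∀ i < n, f (2 ^ i) = g (2 ^ i))
    {m : ℕ} (hm : m < 2 ^ n) : f m = g m :=
  ext_add (op := fun a b => a ^^^ b) hf hg (by rw [hf.map_zero, hg.map_zero]) n h m hm

end CfsgLib.Lie.E6Two
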