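import Cfsg.Agent.Lib.Lie.Twisted.E6Two.Mono
import Cfsg.Agent.Lib.Lie.Twisted.E6Two.Alt

set_option autoImplicit false
set_option maxRecDepth 20000

/-!
The centraliser of the element of order five is the product of its group and the alternating group on eight
letters (owner: helper19).
-/

namespace CfsgLib.Lie.E6Two

open Data

theorem order_facts : (∀ i < 78, iterLin xT 5 (2 ^ i) = 2 ^ i ∧ iterLin yT 5 (2 ^ i) = 2 ^ i ∧
      lin xT (yT.getD i 0) = lin yT (xT.getD i 0)) ∧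
    (uA < 2 ^ 78 ∧ lin yT uA = uA ∧ ∀ g < 6, lin (aT g) uA = uA) ∧
    (∀ k, 1 ≤ k → k < 5 → iterLin xT k uA ≠ uA) ∧ ∃ i < 78, yT.getD i 0 ≠ 2 ^ i := by
  have h := order_checked
  simp only [orderOK, Bool.and_eq_true, List.all_eq_true, List.mem_range, List.mem_range'_1, Bool.not_eq_true',
    List.any_eq_true] at h
  obtain ⟨a, ⟨b1, b2, b3⟩, c, i, hi, hne⟩ := h
  refine ⟨fun n hn => ⟨beq_eq (a n hn).1, beq_eq (a n hn).2.1, beq_eq (a n hn).2.2⟩,
    ⟨blt_lt b1, beq_eq b2, fun g hg => beq_eq (b3 g hg)⟩, fun k h1 h2 e => ?_, i, hi, fun e => ?_⟩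
  · have := c k ⟨h1, by omega⟩
    rw [e, Nat.beq_refl] at this
    exact Bool.noConfusion this
  · rw [e, Nat.beq_refl] at hne
    exact Bool.noConfusion hne

theorem iterLin_add (L : List ℕ) : ∀ n, IsAdd (iterLin L n)
  | 0 => fun _ _ => rfl
  | n + 1 => (isAdd_lin L).comp (iterLin_add L n)

variable {K : Type*} [Field K] [Fintype K] {S : Four K} {hK : Fintype.card K = 4}

theorem pow_eq_one {g : Four.E K} {L : List ℕ} (hL : ∀ m < 2 ^ 78, S.act hK g m = lin L m) {n : ℕ}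
    (h : ∀ i < 78, iterLin L n (2 ^ i) = 2 ^ i) : g ^ n = 1 :=
  eq_of_act (S := S) (hK := hK) fun m hm => by
    rw [act_pow hL hm n, act_one hm]
    exact IsAdd.ext (iterLin_add L n) isAdd_id h hm

theorem x_pow_five : S.x hK ^ 5 = 1 :=
  pow_eq_one (S := S) (hK := hK) (fun _ hm => act_x hm) fun i hi => (order_facts.1 i hi).1

theorem x_pow_ne {n : ℕ} (hn : n % 5 ≠ 0) : S.act hK (S.x hK ^ n) uA ≠ uA := by
  have e : S.x hK ^ n = S.x hK ^ (n % 5) := pow_eq_pow_mod n x_pow_five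
  rw [e, act_pow (fun _ hm => act_x hm) order_facts.2.1.1 (n % 5)]
  exact order_facts.2.2.1 _ (by omega) (by omega)

theorem x_order : orderOf (S.x hK) = 5 := by
  haveI : Fact (Nat.Prime 5) := ⟨by norm_num⟩
  refine orderOf_eq_prime x_pow_five fun h => ?_
  exact x_pow_ne (S := S) (hK := hK) (n := 1) (by norm_num) (by rw [pow_one, h, act_one order_facts.2.1.1])

theorem A_fix {a : Four.E K} (ha : a ∈ S.A hK) : S.act hK a uA = uA := by
  induction ha using Subgroup.closure_induction with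
  | mem y hy =>
    obtain ⟨g, hg, rfl⟩ := hy
    rw [act_gA hg order_facts.2.1.1]
    exact order_facts.2.1.2.2 g hg
  | one => exact act_one order_facts.2.1.1
  | mul a b _ _ ha hb => rw [act_mul _ _ order_facts.2.1.1, hb, ha]
  | inv a _ ha => conv_lhs => rw [← ha]
                  exact act_inv _ order_facts.2.1.1

theorem mono_zero (S : Four K) : S.mono 0 0 = 1 := by
  ext a b
  rw [mono_apply, zero_mul, Matrix.one_apply]
  simp only [show Nat.beq 0 0 = true from rfl, cond_true]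
  by_cases h : a = b
  · rw [h, if_pos rfl, if_pos rfl]
    exact S.bd_one
  · rw [if_neg h, if_neg fun e => h (CfsgLib.Lie.Chev.code_injective _ e.symm)]

theorem eq_pow_of_mono {g : Four.E K} {q : ℕ} (hm : Four.mt ((S.xE hK 0 ^ q)⁻¹ * g) = S.mono 0 0) :
    g = S.x hK ^ q := by
  have h : (S.xE hK 0 ^ q)⁻¹ * g = 1 := Subtype.ext (Units.ext (hm.trans (mono_zero S)))
  exact (inv_mul_eq_one.1 h).symm

/-- An element centralising the element of order five is a power of it times an element of the complement. -/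
theorem decompose {g : Four.E K} (hg : Commute g (S.x hK)) :
    ∃ a ∈ S.A hK, ∃ q : ℕ, g = a * S.x hK ^ q := by
  obtain ⟨a, ha, h | h⟩ := reduce_six hg
  · have hc : a * g * S.x hK = S.xE hK 0 * (a * g) := ((A_comm ha).mul_left hg).eq
    obtain ⟨q, k, hk, hm⟩ := rigid (j := 0) (by norm_num) h hc
    obtain ⟨-, rfl⟩ := no_mono hK (by norm_num) hk hm
    have e : a * g = S.x hK ^ q := eq_pow_of_mono hm
    refine ⟨a⁻¹, inv_mem ha, q, ?_⟩
    rw [← e, inv_mul_cancel_left]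
  · exfalso
    have hc : S.n0 hK * (a * g) * S.x hK = S.xE hK 1 * (S.n0 hK * (a * g)) := by
      rw [mul_assoc, ((A_comm ha).mul_left hg).eq, ← mul_assoc, n0_conj, mul_assoc]
      rfl
    obtain ⟨q, k, hk, hm⟩ := rigid (j := 1) (by norm_num) h hc
    exact absurd (no_mono hK (by norm_num) hk hm).1 one_ne_zero

/-- `σ` permutes the involutions as `c` the root vectors. -/
def Rep (c : Four.E K) (σ : Equiv.Perm (Fin 8)) : Prop :=
  ∀ i < 105, ∀ k < 105, S.act hK c (R.getD i 0) = R.getD k 0 → σ * f8P i = f8P k * σ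

theorem equiv_get {g : ℕ} (hg : g < 6) : equivOK g = true := by
  interval_cases g
  exacts [equiv_0, equiv_1, equiv_2, equiv_3, equiv_4, equiv_5]

theorem rep_gen {g : ℕ} (hg : g < 6) : Rep (S := S) (hK := hK) (S.gA hK g) (p8P g) := by
  intro i hi k hk e
  have h := equiv_get hg
  simp only [equivOK, List.all_eq_true, List.mem_range, Bool.or_eq_true, Bool.not_eq_true', decide_eq_true_eq] at h
  refine (h i hi k hk).resolve_left ?_
  rw [act_gA hg (R_lt i)] at e
  rw [e, Nat.beq_refl]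
  exact fun h => Bool.noConfusion h

theorem maps_index {c : Four.E K} (hc : Commute c (S.x hK)) {i : ℕ} (hi : i < 105) :
    ∃ k < 105, S.act hK c (R.getD i 0) = R.getD k 0 :=
  inR_iff.1 (mapsR hc (inR_iff.2 ⟨i, hi, rfl⟩))

theorem rep_exists {c : Four.E K} (hc : c ∈ S.A hK) : ∃ σ ∈ H8, Rep (S := S) (hK := hK) c σ := by
  induction hc using Subgroup.closure_induction with
  | mem y hy =>
    obtain ⟨g, hg, rfl⟩ := hy
    exact ⟨_, p8P_mem hg, rep_gen hg⟩
  | one =>
    refine ⟨1, one_mem _, fun i hi k hk e => ?_⟩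
    rw [act_one (R_lt i)] at e
    rw [one_mul, mul_one, eq_index hi hk e]
  | mul a b ha hb iha ihb =>
    obtain ⟨σ, hσ, rσ⟩ := iha
    obtain ⟨τ, hτ, rτ⟩ := ihb
    refine ⟨σ * τ, mul_mem hσ hτ, fun i hi k hk e => ?_⟩
    obtain ⟨l, hl, el⟩ := maps_index (A_comm hb) hi
    rw [act_mul _ _ (R_lt i), el] at e
    rw [mul_assoc, rτ i hi l hl el, ← mul_assoc, rσ l hl k hk e, mul_assoc]
  | inv a _ iha =>
    obtain ⟨σ, hσ, rσ⟩ := iha
    refine ⟨σ⁻¹, inv_mem hσ, fun i hi k hk e => ?_⟩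
    have := rσ k hk i hi (by rw [← e, act_inv' _ (R_lt i)])
    rw [inv_mul_eq_iff_eq_mul, ← mul_assoc, this, mul_inv_cancel_right]
where
  eq_index {i k : ℕ} (hi : i < 105) (hk : k < 105) (e : R.getD i 0 = R.getD k 0) : f8P i = f8P k := by
    rw [R_inj hi hk e]
  R_inj {i k : ℕ} (hi : i < 105) (hk : k < 105) (e : R.getD i 0 = R.getD k 0) : i = k := by
    have hnd : R.Nodup := by decide +kernel
    rw [List.getD_eq_getElem _ _ (case_facts.2.1.symm ▸ hi), List.getD_eq_getElem _ _ (case_facts.2.1.symm ▸ hk)] at e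
    exact (hnd.getElem_inj_iff).1 e

theorem rep_unique {c : Four.E K} (hc : Commute c (S.x hK)) {σ τ : Equiv.Perm (Fin 8)}
    (hσ : Rep (S := S) (hK := hK) c σ) (hτ : Rep (S := S) (hK := hK) c τ) : σ = τ := by
  have h : τ⁻¹ * σ = 1 := eq_one_of_comm fun i hi => by
    obtain ⟨k, hk, e⟩ := maps_index hc hi
    show τ⁻¹ * σ * f8P i = f8P i * (τ⁻¹ * σ)
    rw [mul_assoc, hσ i hi k hk e, ← mul_assoc, ← mul_assoc]
    congr 1
    rw [inv_mul_eq_iff_eq_mul, ← mul_assoc, hτ i hi k hk e, mul_inv_cancel_right]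
  rw [inv_mul_eq_one] at h
  exact h.symm

/-- The action of the complement on eight letters. -/
noncomputable def Four.psi (S : Four K) (hK : Fintype.card K = 4) : ↥(S.A hK) →* ↥(alternatingGroup (Fin 8)) :=
  MonoidHom.mk' (fun a => ⟨(rep_exists a.2).choose, H8_eq ▸ (rep_exists a.2).choose_spec.1⟩) fun a b =>
    Subtype.ext (rep_unique (A_comm (mul_mem a.2 b.2)) (rep_exists (a * b).2).choose_spec.2 fun i hi k hk e => by
      obtain ⟨l, hl, el⟩ := maps_index (A_comm b.2) hi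
      rw [act_mul _ _ (R_lt i), el] at e
      show _ * _ * f8P i = f8P k * (_ * _)
      rw [mul_assoc, (rep_exists b.2).choose_spec.2 i hi l hl el, ← mul_assoc,
        (rep_exists a.2).choose_spec.2 l hl k hk e, mul_assoc])

theorem psi_spec (a : ↥(S.A hK)) : Rep (S := S) (hK := hK) (a : Four.E K) (S.psi hK a : Equiv.Perm (Fin 8)) :=
  (rep_exists a.2).choose_spec.2

theorem psi_bij : Function.Bijective (S.psi hK) := by
  constructor
  · rw [← MonoidHom.ker_eq_bot_iff, Subgroup.eq_bot_iff_forall]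
    rintro ⟨a, ha⟩ hz
    rw [MonoidHom.mem_ker] at hz
    have hrep := psi_spec (S := S) (hK := hK) ⟨a, ha⟩
    rw [hz] at hrep
    have hfix : ∀ i < 105, S.act hK a (R.getD i 0) = R.getD i 0 := fun i hi => by
      obtain ⟨k, hk, e⟩ := maps_index (A_comm ha) hi
      have := hrep i hi k hk e
      rw [OneMemClass.coe_one, one_mul, mul_one] at this
      rw [e, f8P_inj hi hk this]
    have hsix : ∀ i < 6, S.act hK a (six.getD i 0) = six.getD i 0 := fun i hi => by
      obtain ⟨n, hn, e⟩ := inR_iff.1 (six_inR hi)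
      rw [e, hfix n hn]
    obtain ⟨q, k, hk, hm⟩ := rigid (j := 0) (by norm_num) hsix (show a * S.x hK = S.xE hK 0 * a from (A_comm ha).eq)
    obtain ⟨-, rfl⟩ := no_mono hK (by norm_num) hk hm
    have hA : a = S.x hK ^ q := eq_pow_of_mono hm
    refine Subtype.ext ?_
    show a = 1
    by_contra hne
    refine x_pow_ne (S := S) (hK := hK) (n := q) (fun h5 => hne ?_) (hA ▸ A_fix ha)
    rw [hA, pow_eq_pow_mod q x_pow_five, h5, pow_zero]
  · rw [← MonoidHom.range_eq_top, Subgroup.eq_top_iff']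
    rintro ⟨σ, hσ⟩
    rw [← H8_eq] at hσ
    have hle : H8 ≤ (S.psi hK).range.map (alternatingGroup (Fin 8)).subtype := by
      rw [H8, Subgroup.closure_le]
      rintro _ ⟨g, hg, rfl⟩
      exact ⟨_, ⟨⟨S.gA hK g, gA_mem hg⟩, rfl⟩,
        rep_unique (A_comm (gA_mem hg)) (psi_spec ⟨S.gA hK g, gA_mem hg⟩) (rep_gen hg)⟩
    obtain ⟨τ, hτ, e⟩ := hle hσ
    rwa [show τ = ⟨σ, _⟩ from Subtype.ext e] at hτ

/-- The centraliser. -/
theorem centralizer_iso :
    Nonempty (↥(Subgroup.centralizer ({S.x hK} : Set (Four.E K))) ≃*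
      Multiplicative (ZMod 5) × ↥(alternatingGroup (Fin 8))) := by
  set C := Subgroup.centralizer ({S.x hK} : Set (Four.E K))
  have hx : S.x hK ∈ C := Subgroup.mem_centralizer_singleton_iff.2 rfl
  have hle : S.A hK ≤ C := fun a ha => Subgroup.mem_centralizer_singleton_iff.2 (A_comm ha).eq
  have hcomm : ∀ (u : ↥(Subgroup.zpowers (⟨S.x hK, hx⟩ : C))) (v : ↥((S.A hK).subgroupOf C)),
      Commute ((Subgroup.zpowers (⟨S.x hK, hx⟩ : C)).subtype u) (((S.A hK).subgroupOf C).subtype v) := by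
    rintro ⟨u, n, rfl⟩ ⟨v, hv⟩
    refine Commute.zpow_left (Subtype.ext ?_) n
    exact (A_comm (Subgroup.mem_subgroupOf.1 hv)).eq.symm
  set φ := MonoidHom.noncommCoprod (Subgroup.zpowers (⟨S.x hK, hx⟩ : C)).subtype ((S.A hK).subgroupOf C).subtype hcomm
  have hinj : Function.Injective φ := by
    rw [← MonoidHom.ker_eq_bot_iff, Subgroup.eq_bot_iff_forall]
    rintro ⟨⟨u, hu⟩, ⟨v, hv⟩⟩ hz
    rw [MonoidHom.mem_ker] at hz
    have he : u * v = 1 := hz
    rw [mul_eq_one_iff_eq_inv] at he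
    obtain ⟨n, hn⟩ := hu
    have hn' : (S.x hK) ^ n = (v : Four.E K)⁻¹ := congrArg Subtype.val (hn.trans he)
    have hnat : ∃ m : ℕ, (S.x hK) ^ n = S.x hK ^ m ∧ m < 5 := by
      refine ⟨(n % 5).toNat, ?_, by omega⟩
      conv_lhs => rw [← zpow_mod_orderOf, x_order]
      rw [← zpow_natCast, Int.toNat_of_nonneg (by omega)]
      rfl
    obtain ⟨m, hm, hm5⟩ := hnat
    have hm0 : m = 0 := by
      by_contra h0
      refine x_pow_ne (S := S) (hK := hK) (n := m) (by omega) ?_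
      rw [← hm, hn']
      exact A_fix (inv_mem (Subgroup.mem_subgroupOf.1 hv))
    rw [hm0, pow_zero] at hm
    have hv1 : v = 1 := Subtype.ext (inv_eq_one.1 (hn'.symm.trans hm))
    subst hv1
    rw [inv_one] at he
    subst he
    rfl
  have hsurj : Function.Surjective φ := by
    rintro ⟨g, hg⟩
    obtain ⟨a, ha, q, rfl⟩ := decompose (S := S) (hK := hK) (Subgroup.mem_centralizer_singleton_iff.1 hg)
    refine ⟨(⟨(⟨S.x hK, hx⟩ : C) ^ q, q, zpow_natCast _ q⟩, ⟨⟨a, hle ha⟩, ha⟩), Subtype.ext ?_⟩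
    show S.x hK ^ q * a = a * S.x hK ^ q
    exact ((A_comm ha).pow_right q).eq.symm
  have hcyc : Nat.card ↥(Subgroup.zpowers (⟨S.x hK, hx⟩ : C)) = 5 := by
    rw [Nat.card_zpowers, Subgroup.orderOf_mk, x_order]
  haveI : Fact (Nat.Prime 5) := ⟨by norm_num⟩
  haveI : IsCyclic ↥(Subgroup.zpowers (⟨S.x hK, hx⟩ : C)) := inferInstance
  exact ⟨(MulEquiv.ofBijective φ ⟨hinj, hsurj⟩).symm.trans
    (MulEquiv.prodCongr (zmodCyclicMulEquiv inferInstance |>.symm.trans (by rw [hcyc]; exact MulEquiv.refl _))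
      ((Subgroup.subgroupOfEquivOfLe hle).trans (MulEquiv.ofBijective _ (psi_bij (S := S) (hK := hK)))))⟩

end CfsgLib.Lie.E6Two
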