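import Mathlib

set_option autoImplicit false
set_option maxRecDepth 20000

/-!
The 105 root vectors as involutions of eight letters (generated; owner: helper19).
-/

namespace CfsgLib.Lie.E6Two.Data

/-- See the header. -/
noncomputable def p8 : List (List ℕ) := [[1, 0, 3, 2, 5, 4, 7, 6], [1, 0, 4, 6, 2, 7, 3, 5], [2, 4, 0, 7, 1, 6, 5, 3], [3, 2, 1, 0, 7, 6, 5, 4], [4, 2, 1, 7, 0, 6, 5, 3], [2, 3, 0, 1, 7, 6, 5, 4]]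

/-- See the header. -/
noncomputable def f8 : List (List ℕ) := [[2, 4, 0, 7, 1, 6, 5, 3],
  [5, 3, 6, 1, 7, 0, 2, 4],
  [4, 3, 7, 1, 0, 6, 5, 2],
  [6, 7, 5, 4, 3, 2, 0, 1],
  [2, 5, 0, 6, 7, 1, 3, 4],
  [3, 5, 7, 0, 6, 1, 4, 2],
  [6, 2, 1, 7, 5, 4, 0, 3],
  [3, 2, 1, 0, 7, 6, 5, 4],
  [7, 6, 4, 5, 2, 3, 1, 0],
  [7, 6, 3, 2, 5, 4, 1, 0],
  [7, 4, 5, 6, 1, 2, 3, 0],
  [2, 3, 0, 1, 6, 7, 4, 5],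
  [3, 4, 6, 0, 1, 7, 2, 5],
  [4, 2, 1, 6, 0, 7, 3, 5],
  [3, 7, 6, 0, 5, 4, 2, 1],
  [4, 6, 5, 7, 0, 2, 1, 3],
  [4, 2, 1, 5, 0, 3, 7, 6],
  [3, 4, 5, 0, 1, 2, 7, 6],
  [3, 5, 4, 0, 2, 1, 7, 6],
  [1, 0, 3, 2, 5, 4, 7, 6],
  [1, 0, 5, 4, 3, 2, 7, 6],
  [1, 0, 4, 5, 2, 3, 7, 6],
  [5, 6, 7, 4, 3, 0, 1, 2],
  [6, 4, 3, 2, 1, 7, 0, 5],
  [2, 6, 0, 4, 3, 7, 1, 5],
  [6, 5, 4, 7, 2, 1, 0, 3],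
  [5, 4, 7, 6, 1, 0, 3, 2],
  [5, 2, 1, 7, 6, 0, 4, 3],
  [6, 5, 3, 2, 7, 1, 0, 4],
  [5, 2, 1, 4, 3, 0, 7, 6],
  [7, 5, 6, 4, 3, 1, 2, 0],
  [6, 4, 7, 5, 1, 3, 0, 2],
  [3, 6, 7, 0, 5, 4, 1, 2],
  [2, 6, 0, 5, 7, 3, 1, 4],
  [1, 0, 7, 5, 6, 3, 4, 2],
  [1, 0, 6, 5, 7, 3, 2, 4],
  [7, 2, 1, 6, 5, 4, 3, 0],
  [6, 7, 4, 5, 2, 3, 0, 1],
  [6, 7, 3, 2, 5, 4, 0, 1],
  [7, 3, 5, 1, 6, 2, 4, 0],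
  [4, 7, 6, 5, 0, 3, 2, 1],
  [5, 7, 3, 2, 6, 0, 4, 1],
  [2, 7, 0, 6, 5, 4, 3, 1],
  [1, 0, 5, 7, 6, 2, 4, 3],
  [2, 7, 0, 5, 6, 3, 4, 1],
  [7, 3, 4, 1, 2, 6, 5, 0],
  [1, 0, 6, 7, 5, 4, 2, 3],
  [4, 5, 6, 7, 0, 1, 2, 3],
  [4, 7, 3, 2, 0, 6, 5, 1],
  [1, 0, 5, 6, 7, 2, 3, 4],
  [7, 2, 1, 5, 6, 3, 4, 0],
  [5, 7, 4, 6, 2, 0, 3, 1],
  [2, 3, 0, 1, 5, 4, 7, 6],
  [6, 3, 5, 1, 7, 2, 0, 4],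
  [1, 0, 4, 6, 2, 7, 3, 5],
  [5, 3, 4, 1, 2, 0, 7, 6],
  [4, 6, 3, 2, 0, 7, 1, 5],
  [1, 0, 4, 7, 2, 6, 5, 3],
  [5, 6, 3, 2, 7, 0, 1, 4],
  [4, 5, 7, 6, 0, 1, 3, 2],
  [6, 2, 1, 4, 3, 7, 0, 5],
  [7, 6, 5, 4, 3, 2, 1, 0],
  [5, 3, 7, 1, 6, 0, 4, 2],
  [6, 3, 4, 1, 2, 7, 0, 5],
  [4, 5, 3, 2, 0, 1, 7, 6],
  [1, 0, 6, 4, 3, 7, 2, 5],
  [6, 3, 7, 1, 5, 4, 0, 2],
  [2, 5, 0, 4, 3, 1, 7, 6],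
  [1, 0, 3, 2, 7, 6, 5, 4],
  [5, 6, 4, 7, 2, 0, 1, 3],
  [5, 4, 3, 2, 1, 0, 7, 6],
  [2, 7, 0, 4, 3, 6, 5, 1],
  [1, 0, 7, 4, 3, 6, 5, 2],
  [7, 2, 1, 4, 3, 6, 5, 0],
  [3, 6, 4, 0, 2, 7, 1, 5],
  [1, 0, 3, 2, 6, 7, 4, 5],
  [7, 5, 3, 2, 6, 1, 4, 0],
  [2, 4, 0, 5, 1, 3, 7, 6],
  [7, 3, 6, 1, 5, 4, 2, 0],
  [3, 2, 1, 0, 6, 7, 4, 5],
  [4, 7, 5, 6, 0, 2, 3, 1],
  [7, 4, 3, 2, 1, 6, 5, 0],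
  [3, 7, 5, 0, 6, 2, 4, 1],
  [5, 4, 6, 7, 1, 0, 2, 3],
  [4, 3, 6, 1, 0, 7, 2, 5],
  [3, 5, 6, 0, 7, 1, 2, 4],
  [2, 4, 0, 6, 1, 7, 3, 5],
  [1, 0, 7, 6, 5, 4, 3, 2],
  [7, 5, 4, 6, 2, 1, 3, 0],
  [3, 6, 5, 0, 7, 2, 1, 4],
  [4, 3, 5, 1, 0, 2, 7, 6],
  [7, 4, 6, 5, 1, 3, 2, 0],
  [3, 7, 4, 0, 2, 6, 5, 1],
  [5, 7, 6, 4, 3, 0, 2, 1],
  [2, 6, 0, 7, 5, 4, 1, 3],
  [6, 5, 7, 4, 3, 1, 0, 2],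
  [5, 2, 1, 6, 7, 0, 3, 4],
  [2, 5, 0, 7, 6, 1, 4, 3],
  [4, 2, 1, 7, 0, 6, 5, 3],
  [4, 6, 7, 5, 0, 3, 1, 2],
  [6, 2, 1, 5, 7, 3, 0, 4],
  [6, 4, 5, 7, 1, 2, 0, 3],
  [3, 4, 7, 0, 1, 6, 5, 2],
  [3, 2, 1, 0, 5, 4, 7, 6],
  [2, 3, 0, 1, 7, 6, 5, 4]]

/-- See the header. -/
noncomputable def cyc : List ℕ := [1, 0, 4, 1, 5, 3, 2, 0, 1, 0]

/-- See the header. -/
noncomputable def tri : List (ℕ × ℕ × ℕ) := [(0, 1, 2),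
  (1, 0, 3),
  (1, 0, 4),
  (2, 4, 0),
  (3, 2, 1),
  (4, 2, 1),
  (2, 3, 0),
  (0, 1, 6),
  (4, 2, 7),
  (2, 4, 7),
  (0, 1, 5),
  (2, 3, 7),
  (3, 2, 7),
  (3, 5, 1),
  (1, 7, 3),
  (0, 7, 2),
  (6, 4, 0),
  (7, 0, 4),
  (7, 1, 2),
  (5, 3, 0),
  (7, 0, 3),
  (4, 6, 1),
  (1, 7, 4),
  (1, 0, 7),
  (2, 4, 5),
  (3, 2, 5),
  (4, 2, 5),
  (2, 3, 5),
  (5, 3, 6),
  (7, 1, 4),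
  (0, 1, 3),
  (3, 5, 6),
  (0, 7, 4),
  (2, 4, 6),
  (3, 2, 6),
  (4, 2, 6),
  (2, 3, 6),
  (4, 6, 5),
  (0, 7, 3),
  (0, 1, 4),
  (6, 4, 5),
  (7, 1, 3),
  (6, 7, 0),
  (7, 6, 4),
  (0, 6, 2),
  (7, 6, 2),
  (1, 6, 3),
  (0, 5, 6),
  (4, 3, 7),
  (3, 4, 1),
  (1, 5, 4),
  (4, 3, 1),
  (7, 5, 1),
  (5, 1, 2),
  (5, 7, 3),
  (5, 0, 4),
  (5, 7, 2),
  (6, 1, 5),
  (3, 4, 0),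
  (6, 0, 3),
  (4, 3, 0),
  (7, 6, 1),
  (6, 7, 2),
  (6, 7, 4),
  (6, 1, 2),
  (5, 1, 6),
  (3, 4, 7),
  (5, 7, 0),
  (7, 5, 2),
  (0, 5, 2),
  (7, 5, 3),
  (0, 6, 5),
  (4, 2, 3),
  (2, 3, 4),
  (2, 4, 3),
  (3, 2, 4),
  (3, 5, 4),
  (1, 7, 6),
  (1, 0, 6),
  (0, 7, 6),
  (6, 4, 7),
  (7, 0, 6),
  (7, 1, 6),
  (5, 3, 4),
  (4, 6, 7),
  (7, 6, 3),
  (6, 7, 5),
  (6, 0, 5),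
  (5, 0, 2),
  (3, 2, 0),
  (1, 0, 2),
  (2, 3, 1),
  (6, 7, 3),
  (7, 6, 5),
  (1, 6, 5),
  (1, 5, 2),
  (3, 5, 7),
  (1, 7, 5),
  (1, 0, 5),
  (0, 7, 5),
  (6, 4, 3),
  (7, 0, 5),
  (7, 1, 5),
  (5, 3, 7),
  (4, 6, 3),
  (5, 7, 4),
  (1, 5, 6),
  (7, 5, 6),
  (1, 6, 2),
  (2, 4, 1),
  (4, 2, 0),
  (7, 5, 4),
  (5, 7, 6),
  (5, 0, 6),
  (6, 0, 2),
  (5, 3, 2),
  (5, 4, 3),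
  (5, 4, 2),
  (4, 5, 7),
  (3, 5, 0),
  (1, 3, 4),
  (2, 5, 0),
  (4, 5, 1),
  (4, 5, 0),
  (0, 3, 6),
  (2, 5, 7),
  (1, 4, 7),
  (2, 6, 5),
  (3, 6, 5),
  (5, 2, 6),
  (6, 2, 0),
  (7, 0, 2),
  (0, 4, 5),
  (2, 6, 7),
  (2, 6, 0),
  (3, 6, 7),
  (5, 2, 0),
  (3, 6, 4),
  (4, 6, 2),
  (3, 6, 2),
  (4, 0, 3),
  (6, 2, 1),
  (6, 3, 0),
  (6, 3, 7),
  (6, 4, 1),
  (4, 1, 5),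
  (6, 2, 7),
  (6, 3, 1),
  (3, 0, 7),
  (5, 4, 6),
  (2, 5, 1),
  (1, 7, 2),
  (3, 1, 6),
  (5, 2, 7),
  (5, 4, 7),
  (5, 2, 1),
  (2, 6, 1),
  (4, 5, 2),
  (3, 5, 2),
  (4, 5, 3),
  (5, 4, 1),
  (5, 3, 1),
  (5, 4, 0),
  (3, 0, 4),
  (4, 0, 7),
  (6, 2, 5),
  (6, 3, 5),
  (2, 5, 6),
  (6, 3, 2),
  (6, 3, 4),
  (6, 4, 2),
  (3, 6, 0),
  (3, 6, 1),
  (4, 6, 0),
  (1, 4, 3),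
  (1, 3, 7),
  (4, 5, 6),
  (7, 1, 0),
  (0, 1, 7),
  (7, 0, 1),
  (0, 7, 1),
  (1, 7, 0),
  (0, 6, 7),
  (7, 6, 0),
  (1, 6, 7),
  (0, 5, 3),
  (4, 3, 5),
  (3, 4, 5),
  (1, 5, 3),
  (5, 1, 3),
  (5, 0, 3),
  (6, 1, 7),
  (6, 0, 7),
  (6, 7, 1),
  (3, 1, 7),
  (4, 1, 3),
  (0, 3, 7),
  (0, 4, 3),
  (0, 6, 4),
  (1, 6, 4),
  (0, 5, 7),
  (4, 3, 6),
  (3, 4, 6),
  (1, 5, 7),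
  (5, 1, 7),
  (5, 0, 7),
  (5, 7, 1),
  (6, 1, 4),
  (6, 0, 4),
  (7, 5, 0),
  (0, 4, 7),
  (0, 3, 4),
  (4, 1, 7),
  (3, 1, 4),
  (6, 0, 1),
  (6, 1, 0),
  (7, 2, 6),
  (7, 2, 4),
  (2, 7, 5),
  (0, 6, 3),
  (0, 2, 5),
  (4, 7, 1),
  (2, 0, 7),
  (2, 7, 0),
  (2, 7, 1),
  (1, 2, 7),
  (3, 0, 5),
  (4, 7, 5),
  (2, 1, 5),
  (2, 7, 4),
  (2, 0, 3),
  (3, 7, 4),
  (7, 4, 3),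
  (7, 3, 1),
  (5, 1, 4),
  (6, 1, 3),
  (2, 1, 6),
  (3, 7, 6),
  (4, 0, 6),
  (2, 7, 6),
  (0, 5, 4),
  (3, 7, 1),
  (7, 4, 1),
  (1, 5, 0),
  (0, 5, 1),
  (2, 7, 3),
  (7, 3, 0),
  (7, 2, 1),
  (1, 4, 6),
  (0, 2, 6),
  (7, 3, 6),
  (7, 2, 0),
  (7, 2, 3),
  (1, 2, 4),
  (4, 7, 0),
  (7, 4, 5),
  (7, 2, 5),
  (1, 3, 5),
  (7, 4, 0),
  (3, 7, 0),
  (1, 6, 0),
  (0, 6, 1),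
  (1, 2, 3),
  (7, 3, 4),
  (4, 7, 3),
  (5, 0, 1),
  (5, 1, 0),
  (2, 0, 4),
  (3, 4, 2),
  (4, 3, 2),
  (2, 5, 3),
  (2, 5, 4),
  (0, 3, 5),
  (1, 4, 2),
  (5, 2, 4),
  (0, 4, 2),
  (4, 0, 2),
  (4, 1, 2),
  (5, 2, 3),
  (3, 1, 5),
  (2, 0, 6),
  (0, 2, 4),
  (0, 2, 7),
  (1, 2, 6),
  (2, 1, 4),
  (2, 1, 7),
  (1, 3, 2),
  (0, 3, 2),
  (2, 6, 3),
  (2, 6, 4),
  (6, 2, 3),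
  (0, 4, 6),
  (6, 2, 4),
  (4, 1, 6),
  (3, 0, 2),
  (3, 1, 2),
  (1, 2, 5),
  (2, 1, 3),
  (2, 0, 5),
  (0, 2, 3),
  (3, 1, 0),
  (3, 0, 1),
  (4, 0, 5),
  (1, 3, 6),
  (5, 6, 0),
  (7, 4, 2),
  (7, 4, 6),
  (5, 6, 4),
  (0, 3, 1),
  (1, 3, 0),
  (0, 2, 1),
  (6, 5, 2),
  (3, 7, 2),
  (3, 0, 6),
  (6, 5, 3),
  (7, 3, 5),
  (1, 4, 5),
  (6, 5, 0),
  (7, 3, 2),
  (4, 7, 2),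
  (0, 4, 1),
  (1, 4, 0),
  (5, 6, 1),
  (3, 7, 5),
  (5, 6, 3),
  (4, 1, 0),
  (4, 0, 1),
  (2, 1, 0),
  (6, 5, 4),
  (4, 7, 6),
  (6, 5, 1),
  (5, 6, 2),
  (2, 0, 1),
  (1, 2, 0),
  (6, 5, 7),
  (5, 6, 7)]

/-- See the header. -/
noncomputable def tripar : List (ℕ × ℕ) := [(0, 0),
  (0, 0),
  (0, 1),
  (0, 2),
  (0, 3),
  (0, 4),
  (0, 5),
  (1, 1),
  (1, 2),
  (1, 4),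
  (2, 0),
  (2, 3),
  (2, 5),
  (3, 0),
  (3, 3),
  (3, 5),
  (4, 1),
  (4, 2),
  (4, 4),
  (5, 0),
  (5, 5),
  (6, 1),
  (6, 4),
  (7, 0),
  (7, 2),
  (7, 3),
  (7, 4),
  (7, 5),
  (8, 0),
  (8, 3),
  (8, 4),
  (9, 0),
  (9, 5),
  (10, 2),
  (10, 3),
  (10, 4),
  (10, 5),
  (11, 1),
  (11, 2),
  (11, 5),
  (12, 1),
  (12, 4),
  (13, 1),
  (13, 2),
  (13, 3),
  (13, 4),
  (13, 5),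
  (14, 1),
  (14, 2),
  (14, 5),
  (15, 1),
  (15, 4),
  (16, 0),
  (16, 2),
  (16, 3),
  (16, 4),
  (16, 5),
  (17, 0),
  (17, 4),
  (18, 0),
  (18, 5),
  (19, 1),
  (19, 2),
  (19, 4),
  (19, 5),
  (20, 1),
  (20, 4),
  (21, 0),
  (21, 3),
  (21, 4),
  (21, 5),
  (22, 0),
  (23, 2),
  (23, 3),
  (23, 4),
  (23, 5),
  (24, 0),
  (24, 3),
  (24, 4),
  (24, 5),
  (25, 1),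
  (25, 2),
  (25, 4),
  (26, 0),
  (27, 1),
  (28, 1),
  (28, 2),
  (28, 3),
  (29, 1),
  (29, 4),
  (30, 0),
  (30, 5),
  (31, 1),
  (31, 2),
  (31, 5),
  (32, 1),
  (33, 0),
  (33, 3),
  (33, 4),
  (33, 5),
  (34, 1),
  (34, 2),
  (34, 4),
  (35, 0),
  (36, 1),
  (37, 0),
  (37, 2),
  (37, 3),
  (38, 0),
  (38, 5),
  (39, 4),
  (40, 0),
  (40, 3),
  (40, 4),
  (41, 0),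
  (42, 2),
  (42, 3),
  (42, 5),
  (43, 3),
  (43, 4),
  (44, 1),
  (44, 2),
  (44, 4),
  (45, 5),
  (46, 1),
  (46, 4),
  (47, 0),
  (47, 2),
  (47, 3),
  (48, 0),
  (49, 1),
  (49, 4),
  (50, 0),
  (50, 3),
  (50, 4),
  (50, 5),
  (51, 0),
  (52, 2),
  (52, 3),
  (52, 4),
  (53, 0),
  (53, 3),
  (53, 5),
  (54, 2),
  (54, 5),
  (55, 0),
  (55, 5),
  (56, 4),
  (57, 1),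
  (57, 2),
  (58, 0),
  (58, 5),
  (59, 1),
  (59, 2),
  (59, 4),
  (59, 5),
  (60, 1),
  (61, 3),
  (61, 4),
  (61, 5),
  (62, 3),
  (62, 4),
  (62, 5),
  (64, 1),
  (65, 0),
  (65, 3),
  (65, 5),
  (66, 0),
  (67, 2),
  (67, 4),
  (67, 5),
  (68, 2),
  (68, 4),
  (68, 5),
  (69, 0),
  (71, 1),
  (71, 4),
  (72, 3),
  (72, 4),
  (72, 5),
  (73, 2),
  (73, 4),
  (76, 3),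
  (76, 4),
  (76, 5),
  (77, 1),
  (77, 2),
  (77, 5),
  (79, 1),
  (80, 2),
  (80, 4),
  (81, 0),
  (82, 0),
  (83, 2),
  (87, 1),
  (88, 0),
  (94, 1),
  (95, 0),
  (96, 3),
  (96, 5),
  (97, 1),
  (97, 2),
  (97, 5),
  (99, 1),
  (100, 2),
  (100, 4),
  (100, 5),
  (101, 0),
  (102, 0),
  (104, 3),
  (106, 0),
  (108, 1),
  (113, 0),
  (114, 1),
  (115, 3),
  (115, 5),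
  (116, 1),
  (117, 1),
  (118, 1),
  (118, 4),
  (120, 0),
  (120, 2),
  (120, 3),
  (120, 4),
  (123, 1),
  (124, 0),
  (124, 3),
  (124, 4),
  (124, 5),
  (126, 3),
  (126, 4),
  (126, 5),
  (129, 1),
  (130, 0),
  (130, 4),
  (131, 0),
  (132, 2),
  (132, 3),
  (132, 4),
  (132, 5),
  (133, 5),
  (134, 0),
  (136, 1),
  (138, 2),
  (138, 4),
  (139, 0),
  (140, 3),
  (140, 5),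
  (145, 2),
  (145, 4),
  (145, 5),
  (147, 0),
  (148, 2),
  (148, 5),
  (150, 1),
  (152, 2),
  (152, 4),
  (152, 5),
  (155, 1),
  (156, 0),
  (157, 2),
  (157, 4),
  (164, 2),
  (164, 3),
  (167, 1),
  (168, 3),
  (168, 5),
  (175, 3),
  (177, 2),
  (177, 5),
  (182, 2),
  (182, 5),
  (184, 1),
  (185, 0),
  (186, 0),
  (188, 0),
  (189, 0),
  (190, 0),
  (191, 4),
  (192, 1),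
  (194, 0),
  (194, 3),
  (195, 4),
  (196, 0),
  (196, 5),
  (197, 2),
  (198, 1),
  (199, 1),
  (200, 2),
  (200, 5),
  (202, 1),
  (203, 0),
  (204, 3),
  (205, 0),
  (207, 1),
  (208, 1),
  (210, 1),
  (210, 2),
  (212, 1),
  (212, 4),
  (214, 1),
  (215, 1),
  (216, 5),
  (218, 4),
  (221, 0),
  (221, 3),
  (226, 4),
  (227, 0),
  (229, 2),
  (229, 4),
  (230, 5),
  (231, 1),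
  (233, 4),
  (235, 1),
  (237, 1),
  (237, 2),
  (237, 5),
  (241, 1),
  (241, 4),
  (242, 3),
  (243, 0),
  (244, 0),
  (246, 1),
  (248, 5),
  (250, 1),
  (252, 3),
  (252, 5),
  (253, 4),
  (255, 0),
  (255, 3),
  (258, 0),
  (263, 1),
  (273, 4),
  (276, 2),
  (306, 0),
  (314, 2)]

/-- See the header. -/
noncomputable def path8 : List (List ℕ) := [[], [0], [2], [3], [4], [0, 4], [1, 3], [2, 3]]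

/-- See the header. -/
noncomputable def stab8 : List (List ℕ) := [[1, 0], [5, 2]]

end CfsgLib.Lie.E6Two.Data
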