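import Cfsg.Agent.Lib.Lie.Twisted.E6Two.CheckRigid
import Cfsg.Agent.Lib.Lie.Twisted.E6Two.DataAlt

set_option autoImplicit false
set_option maxRecDepth 100000

/-!
Kernel checks for the complement, the fusion of the elements of order five and eight letters (owner: helper19).
-/

namespace CfsgLib.Lie.E6Two

open Data

/-- The second element of order five. -/
noncomputable def yT : List ℕ := tb (iY.getD 0 0)

/-- The element of order five has order five and moves `uA`. -/
noncomputable def orderOK : Bool :=
  (List.range 78).all (fun i =>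
    Nat.beq (iterLin xT 5 (2 ^ i)) (2 ^ i) && (Nat.beq (iterLin yT 5 (2 ^ i)) (2 ^ i) &&
      Nat.beq (lin xT (yT.getD i 0)) (lin yT (xT.getD i 0)))) &&
  ((Nat.blt uA (2 ^ 78) && (Nat.beq (lin yT uA) uA && (List.range 6).all fun g => Nat.beq (lin (aT g) uA) uA)) &&
  (((List.range' 1 4).all fun k => !(Nat.beq (iterLin xT k uA) uA)) &&
    (List.range 78).any fun i => !(Nat.beq (yT.getD i 0) (2 ^ i))))

/-- The fusion rules. -/
noncomputable def fuseOK : Bool :=
  (List.range 78).all fun i =>
    let e := 2 ^ i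
    (Nat.beq (lin (tb iFa) (xT.getD i 0)) (lin xT (lin (tb iFa) e)) &&
      Nat.beq (lin (tb iFa) (yT.getD i 0)) (iterLin yT 2 (lin (tb iFa) e))) &&
    ((Nat.beq (lin (tb iFb) (xT.getD i 0)) (iterLin xT 3 (lin (tb iFb) e)) &&
      Nat.beq (lin (tb iFb) (yT.getD i 0)) (iterLin yT 2 (lin (tb iFb) e))) &&
    (Nat.beq (lin (tb iFy) (yT.getD i 0)) (iterLin xT 4 (lin (tb iFy) e)) &&
      Nat.beq (lin (tb iFxy) (lin xT (yT.getD i 0))) (lin xT (lin (tb iFxy) e))))

/-- An involution of eight letters given by its list. -/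
def permL (L : List ℕ) : Equiv.Perm (Fin 8) :=
  let f : Fin 8 → Fin 8 := fun i => ⟨L.getD i 0 % 8, Nat.mod_lt _ (by norm_num)⟩
  if h : ∀ i, f (f i) = i then ⟨f, f, h, h⟩ else 1

/-- The involution of a root vector. -/
noncomputable def f8P (i : ℕ) : Equiv.Perm (Fin 8) := permL (f8.getD i [])

/-- The generators on eight letters. -/
noncomputable def p8P (g : ℕ) : Equiv.Perm (Fin 8) := permL (p8.getD g [])

/-- A three-cycle. -/
def cyc3 (a b c : Fin 8) : Equiv.Perm (Fin 8) := Equiv.swap a b * Equiv.swap b c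

/-- A listed three-cycle. -/
noncomputable def triP (n : ℕ) : Equiv.Perm (Fin 8) :=
  let t := tri.getD n (0, 0, 0)
  cyc3 ⟨t.1 % 8, Nat.mod_lt _ (by norm_num)⟩ ⟨t.2.1 % 8, Nat.mod_lt _ (by norm_num)⟩ ⟨t.2.2 % 8, Nat.mod_lt _ (by norm_num)⟩

/-- The generators act on the root vectors as on the involutions. -/
noncomputable def equivOK (g : ℕ) : Bool :=
  (List.range 105).all fun i =>
    (List.range 105).all fun k =>
      !(Nat.beq (lin (aT g) (R.getD i 0)) (R.getD k 0)) || decide (p8P g * f8P i = f8P k * p8P g)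

/-- The eight letters. -/
noncomputable def altOK : Bool :=
  ((List.range 6).all fun g => decide (Equiv.Perm.sign (p8P g) = 1) && (List.range 105).any fun i => decide (p8P g = f8P i)) &&
  (((cyc.all fun g => Nat.blt g 6) && decide ((cyc.map p8P).prod = triP 0)) &&
  ((List.range' 1 335).all fun n =>
    let p := tripar.getD n (0, 0)
    Nat.blt p.1 n && (Nat.blt p.2 6 && decide (p8P p.2 * triP p.1 = triP n * p8P p.2))))

theorem order_checked : orderOK = true := by decide +kernel

theorem fuse_checked : fuseOK = true := by decide +kernel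

theorem alt_checked : altOK = true := by decide +kernel

theorem equiv_0 : equivOK 0 = true := by decide +kernel

theorem equiv_1 : equivOK 1 = true := by decide +kernel

theorem equiv_2 : equivOK 2 = true := by decide +kernel

theorem equiv_3 : equivOK 3 = true := by decide +kernel

theorem equiv_4 : equivOK 4 = true := by decide +kernel

theorem equiv_5 : equivOK 5 = true := by decide +kernel

theorem f8_inj : ((List.range 105).map fun i => (f8.getD i []).foldr (fun a acc => a + 8 * acc) 0).Nodup := by
  decide +kernel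

theorem f8_inv : ∀ i < 105, (f8.getD i []).length = 8 ∧ ∀ a : Fin 8, (f8.getD i []).getD a 0 < 8 ∧
    (f8.getD i []).getD ((f8.getD i []).getD a 0) 0 = a := by
  decide +kernel

theorem tri_cover : ∀ a b c : Fin 8, a ≠ b → b ≠ c → a ≠ c →
    ∃ n < 336, tri.getD n (0, 0, 0) = ((a : ℕ), (b : ℕ), (c : ℕ)) := by
  decide +kernel

theorem two_triples : ∀ a y : Fin 8, cyc3 a (a + 1) (a + 2) y ≠ y → cyc3 a (a + 3) (a + 4) y ≠ y → y = a := by
  decide +kernel

end CfsgLib.Lie.E6Two
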