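import Cfsg.Agent.Lib.Lie.Twisted.E6Two.CheckScan

set_option autoImplicit false
set_option maxRecDepth 100000

/-!
Kernel checks for the reduction of six root vectors (owner: helper19).
-/

namespace CfsgLib.Lie.E6Two

open Data

/-- Membership among the root vectors of the fixed space. -/
noncomputable def inR (w : ℕ) : Bool := R.any (Nat.beq w)

/-- The relation of two root vectors. -/
noncomputable def rel (u v : ℕ) : Bool × Bool × Bool := (Nat.beq (br u v) 0, inR (br u v), inR (u ^^^ v))

/-- A word in the generators of the complement. -/
noncomputable def wordA : List ℕ → ℕ → ℕ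
  | [], v => v
  | g :: w, v => lin (aT g) (wordA w v)

/-- The targets of a stage. -/
noncomputable def tgt (Q : List ℕ) (i t : ℕ) : ℕ := cond (Nat.beq t 0) (Q.getD i 0) (six2.getD i 0)

/-- Every candidate of a stage has a word. -/
noncomputable def stageOK (P Q : List ℕ) (i : ℕ) (ents : List (ℕ × ℕ × List ℕ)) : Bool :=
  (List.range 105).all fun n =>
    !((List.range i).all fun j => decide (rel (Q.getD j 0) (R.getD n 0) = rel (P.getD j 0) (P.getD i 0))) ||
      ents.any fun e => Nat.beq e.1 n && ((e.2.2.all fun g => Nat.blt g 6) &&
        ((Nat.beq e.2.1 0 || Nat.beq i 2) && (Nat.beq (wordA e.2.2 (R.getD n 0)) (tgt Q i e.2.1) &&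
          (List.range i).all fun j => Nat.beq (wordA e.2.2 (Q.getD j 0)) (Q.getD j 0))))

/-- The six vectors and the swapping element. -/
noncomputable def swapOK : Bool :=
  ((List.range 6).all fun i => inR (six.getD i 0) && (inR (six2.getD i 0) &&
    Nat.beq (lin (tb iN0) (six2.getD i 0)) (six.getD i 0))) &&
  (((List.range 3).all fun i => Nat.beq (six2.getD i 0) (cond (Nat.beq i 2) (six2.getD i 0) (six.getD i 0))) &&
  ((List.range 78).all fun i =>
    Nat.beq (lin (tb iN0) (xT.getD i 0)) (lin (tb iXg) ((tb iN0).getD i 0)) &&
      (List.range 6).all fun g => Nat.beq (lin (aT g) (xT.getD i 0)) (lin xT ((aT g).getD i 0))))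

theorem swap_checked : swapOK = true := by decide +kernel

theorem stA_0 : stageOK six six 0 (stA.getD 0 []) = true := by decide +kernel

theorem stA_1 : stageOK six six 1 (stA.getD 1 []) = true := by decide +kernel

theorem stA_2 : stageOK six six 2 (stA.getD 2 []) = true := by decide +kernel

theorem stA_3 : stageOK six six 3 (stA.getD 3 []) = true := by decide +kernel

theorem stA_4 : stageOK six six 4 (stA.getD 4 []) = true := by decide +kernel

theorem stA_5 : stageOK six six 5 (stA.getD 5 []) = true := by decide +kernel

theorem stB_3 : stageOK six six2 3 (stB.getD 3 []) = true := by decide +kernel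

theorem stB_4 : stageOK six six2 4 (stB.getD 4 []) = true := by decide +kernel

theorem stB_5 : stageOK six six2 5 (stB.getD 5 []) = true := by decide +kernel

end CfsgLib.Lie.E6Two
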