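import Cfsg.Agent.Lib.Lie.Twisted.E6Two.Coded
import Cfsg.Agent.Lib.Lie.Twisted.E6Two.DataAlg
import Cfsg.Agent.Lib.Lie.Twisted.E6Two.DataGroup

set_option autoImplicit false
set_option maxRecDepth 100000

/-!
Kernel checks of the tables of the rational form and of the group elements (owner: helper19).
-/

namespace CfsgLib.Lie.E6Two

open Data

/-- The bracket. -/
noncomputable def br (u v : ℕ) : ℕ := bil BR u v

/-- The planes of a rational vector. -/
noncomputable def pl (m : ℕ) : ℕ × ℕ := (lin PA m, lin PB m)

/-- The table of an element. -/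
noncomputable def tb (k : ℕ) : List ℕ := T.getD k []

/-- Scalar multiples of planes. -/
def smulP (p : Bool × Bool) (v : ℕ × ℕ) : ℕ × ℕ :=
  (cond p.1 v.1 0 ^^^ cond p.2 v.2 0, (cond p.1 v.2 0 ^^^ cond p.2 v.1 0) ^^^ cond p.2 v.2 0)

/-- The rational form is sound. -/
noncomputable def algOK : Bool :=
  (allLt 78 PA && (allLt 78 PB && (allLt 78 QA && (allLt 78 QB && BR.all (allLt 78))))) &&
    ((List.range 78).all fun i =>
      Nat.beq (lin QA (PA.getD i 0) ^^^ lin QB (PB.getD i 0)) (2 ^ i) &&
        (let e := SPAN.getD i ((false, false), 0, (false, false), 0)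
         let u := smulP e.1 (pl e.2.1)
         let v := smulP e.2.2.1 (pl e.2.2.2)
         Nat.blt e.2.1 (2 ^ 78) && (Nat.blt e.2.2.2 (2 ^ 78) &&
          (Nat.beq (u.1 ^^^ v.1) (2 ^ i) && Nat.beq (u.2 ^^^ v.2) 0))))

/-- A generator acts by its table. -/
noncomputable def genOK (k : ℕ) : Bool :=
  ((GW.getD k []).all fun p => Nat.blt p.1 72) && (allLt 78 (tb k) &&
    ((List.range 78).all fun i =>
      let v := wact (GW.getD k []) (PA.getD i 0, PB.getD i 0)
      let w := pl ((tb k).getD i 0)
      Nat.beq v.1 w.1 && Nat.beq v.2 w.2))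

/-- A generator preserves the bracket. -/
noncomputable def brOK (k : ℕ) : Bool :=
  (List.range 78).all fun i => (List.range 78).all fun j =>
    Nat.beq (lin (tb k) ((BR.getD i []).getD j 0)) (br ((tb k).getD i 0) ((tb k).getD j 0))

/-- A part of the products. -/
noncomputable def progPart (j : ℕ) : Bool :=
  (List.range' (16 + 56 * j) 56).all fun k =>
    let p := prog.getD (k - 16) (0, 0)
    Nat.blt p.1 k && (Nat.blt p.2 k && (allLt 78 (tb k) &&
      ((List.range 78).all fun i => Nat.beq ((tb k).getD i 0) (lin (tb p.1) ((tb p.2).getD i 0)))))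

theorem alg_checked : algOK = true := by decide +kernel

theorem gen_0 : genOK 0 = true := by decide +kernel

theorem gen_1 : genOK 1 = true := by decide +kernel

theorem gen_2 : genOK 2 = true := by decide +kernel

theorem gen_3 : genOK 3 = true := by decide +kernel

theorem gen_4 : genOK 4 = true := by decide +kernel

theorem gen_5 : genOK 5 = true := by decide +kernel

theorem gen_6 : genOK 6 = true := by decide +kernel

theorem gen_7 : genOK 7 = true := by decide +kernel

theorem gen_8 : genOK 8 = true := by decide +kernel

theorem gen_9 : genOK 9 = true := by decide +kernel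

theorem gen_10 : genOK 10 = true := by decide +kernel

theorem gen_11 : genOK 11 = true := by decide +kernel

theorem gen_12 : genOK 12 = true := by decide +kernel

theorem gen_13 : genOK 13 = true := by decide +kernel

theorem gen_14 : genOK 14 = true := by decide +kernel

theorem gen_15 : genOK 15 = true := by decide +kernel

theorem br_0 : brOK 0 = true := by decide +kernel

theorem br_1 : brOK 1 = true := by decide +kernel

theorem br_2 : brOK 2 = true := by decide +kernel

theorem br_3 : brOK 3 = true := by decide +kernel

theorem br_4 : brOK 4 = true := by decide +kernel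

theorem br_5 : brOK 5 = true := by decide +kernel

theorem br_6 : brOK 6 = true := by decide +kernel

theorem br_7 : brOK 7 = true := by decide +kernel

theorem br_8 : brOK 8 = true := by decide +kernel

theorem br_9 : brOK 9 = true := by decide +kernel

theorem br_10 : brOK 10 = true := by decide +kernel

theorem br_11 : brOK 11 = true := by decide +kernel

theorem br_12 : brOK 12 = true := by decide +kernel

theorem br_13 : brOK 13 = true := by decide +kernel

theorem br_14 : brOK 14 = true := by decide +kernel

theorem br_15 : brOK 15 = true := by decide +kernel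

theorem prog_0 : progPart 0 = true := by decide +kernel

theorem prog_1 : progPart 1 = true := by decide +kernel

theorem prog_2 : progPart 2 = true := by decide +kernel

theorem prog_3 : progPart 3 = true := by decide +kernel

theorem gen_checked {k : ℕ} (hk : k < 16) : genOK k = true ∧ brOK k = true := by
  interval_cases k
  exacts [⟨gen_0, br_0⟩, ⟨gen_1, br_1⟩, ⟨gen_2, br_2⟩, ⟨gen_3, br_3⟩, ⟨gen_4, br_4⟩, ⟨gen_5, br_5⟩, ⟨gen_6, br_6⟩, ⟨gen_7, br_7⟩, ⟨gen_8, br_8⟩, ⟨gen_9, br_9⟩, ⟨gen_10, br_10⟩, ⟨gen_11, br_11⟩, ⟨gen_12, br_12⟩, ⟨gen_13, br_13⟩, ⟨gen_14, br_14⟩, ⟨gen_15, br_15⟩]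

theorem prog_checked {j : ℕ} (hj : j < 4) : progPart j = true := by
  interval_cases j
  exacts [prog_0, prog_1, prog_2, prog_3]

end CfsgLib.Lie.E6Two
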