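import Cfsg.Agent.Lib.Lie.Twisted.E6Two.CheckRigid

set_option autoImplicit false
set_option maxRecDepth 100000

/-!
Kernel checks on heights: positive root elements do not lower them, the monomial maps preserve them
(owner: helper19).
-/

namespace CfsgLib.Lie.E6Two

open Data Cfsg.Lie CfsgLib.Lie.Chev

/-- The shifted height of a coordinate. -/
noncomputable def hN (c : ℕ) : ℕ := hgtC.getD c 0

/-- Positive root elements do not lower heights. -/
noncomputable def upOK : Bool :=
  (List.range' 36 36).all fun r => (entries chevE6 r).all fun e => Nat.ble (hN e.2.2.1) (hN e.2.1)

/-- A negative root element has an entry that lowers the height. -/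
noncomputable def downOK : Bool :=
  (List.range 36).all fun s => (List.range 6).any fun i =>
    decide (chevE6.cartan i s % 2 ≠ 0) && Nat.blt (hN (6 + s)) (hN i)

/-- The graph map preserves heights. -/
noncomputable def levelOK : Bool :=
  (List.range 78).all fun c => Nat.beq (hN (graphPerm.getD c 0)) (hN c)

theorem up_checked : upOK = true := by decide +kernel

theorem down_checked : downOK = true := by decide +kernel

theorem level_checked : levelOK = true := by decide +kernel

end CfsgLib.Lie.E6Two
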