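import Cfsg.Agent.Lib.Lie.Twisted.E6Two.CheckFrame
import Cfsg.Agent.Lib.Lie.Twisted.E6Two.DataRigid

set_option autoImplicit false
set_option maxRecDepth 100000

/-!
Kernel checks for elements fixing six root vectors (owner: helper19).
-/

namespace CfsgLib.Lie.E6Two

open Data

/-- The two possible images of the element of order five. -/
noncomputable def xJ (j : ℕ) : List ℕ := cond (Nat.beq j 0) xT (tb iXg)

/-- A linear condition on the image of a vector. -/
noncomputable def cond60 (c : ℕ × ℕ × ℕ) (v : ℕ) : ℕ :=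
  cond (Nat.beq c.1 0) (br (six.getD c.2.1 0) v)
    (br (br (six.getD c.2.1 0) (six.getD c.2.2 0)) v ^^^ cond (Nat.beq c.1 2) v 0)

/-- The sum of the corrections. -/
noncomputable def corr (F : ℕ → ℕ → ℕ) : ℕ → List (List ℕ) → ℕ → ℕ
  | _, [], _ => 0
  | n, Q :: Qs, v => lin Q (F n v) ^^^ corr F (n + 1) Qs v

/-- The conditions in order. -/
noncomputable def F60 (n v : ℕ) : ℕ := cond60 (W60cond.getD n (0, 0, 0)) v

/-- A power of a table. -/
noncomputable def iterLin (L : List ℕ) : ℕ → ℕ → ℕ
  | 0, v => v
  | n + 1, v => lin L (iterLin L n v)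

/-- The images of the orbit under the swapped element. -/
noncomputable def orb60OK : Bool :=
  (Nat.beq W60Q.length W60cond.length && ((List.range W60cond.length).all fun n => Nat.beq (F60 n e60) 0)) &&
  (((List.range 78).all fun i =>
      Nat.beq (lin W60 (W60co.getD i 0) ^^^ corr F60 0 W60Q (2 ^ i)) (2 ^ i)) &&
  ((allLt 78 W60 && allLt 4 W60co) && ((List.range 16).all fun c =>
      let p := W60case.getD c (0, 0)
      let v := lin W60 c
      (Nat.beq p.1 2 && Nat.beq v 0) ||
        ((Nat.beq p.1 0 && (Nat.blt p.2 5 && (Nat.beq v (iterLin xT p.2 e60) &&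
          Nat.beq v (iterLin (tb iXg) (xgFor.getD p.2 0) e60)))) ||
        (Nat.beq p.1 1 && (Nat.blt p.2 11 && Nat.beq v (rk.getD p.2 (0, [], [])).1))))))

/-- The conjugate of the first root vector. -/
noncomputable def root60OK : Bool :=
  ((w60.all fun g => Nat.blt g 16) && Nat.beq (w60.foldr (fun g v => lin (tb g) v) eA) e60) &&
  ((List.range 6).all fun j =>
    Nat.beq (lin xT (six.getD j 0)) (six.getD j 0) && Nat.beq (lin (tb iXg) (six.getD j 0)) (six.getD j 0))

/-- One derived vector. -/
noncomputable def derivStep (X base acc : List ℕ) (o : ℕ × ℕ × ℕ) : ℕ :=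
  cond (Nat.beq o.1 0) (base.getD o.2.1 0)
    (cond (Nat.beq o.1 1) (lin X (acc.getD o.2.1 0)) (br (acc.getD o.2.1 0) (acc.getD o.2.2 0)))

/-- The derived vectors. -/
noncomputable def deriv (X base : List ℕ) : List (ℕ × ℕ × ℕ) → List ℕ → List ℕ
  | [], acc => acc
  | o :: L, acc => deriv X base L (acc ++ [derivStep X base acc o])

/-- The base with a given last vector. -/
noncomputable def base8 (v : ℕ) : List ℕ := six ++ [e60, v]

/-- Certificates in the two cases. -/
noncomputable def w1Q (j : ℕ) : List (List ℕ) := cond (Nat.beq j 0) W1Q0 W1Q1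

/-- Coordinates in the two cases. -/
noncomputable def w1co (j : ℕ) : List ℕ := cond (Nat.beq j 0) W1co0 W1co1

/-- The images in the two cases. -/
noncomputable def imJ (j : ℕ) : List ℕ := cond (Nat.beq j 0) im0 im1

/-- The monomial in the two cases. -/
noncomputable def w1case (j : ℕ) : List ℕ := cond (Nat.beq j 0) W1case0 W1case1

/-- The conditions on the last vector. -/
noncomputable def F1 (j n v : ℕ) : ℕ :=
  br ((imJ j).getD (W1cond.getD n (0, 0)).1 0) v ^^^ cond (Nat.beq (W1cond.getD n (0, 0)).2 1) v 0

/-- The entries of a monomial map. -/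
noncomputable def monoEntries (j k : ℕ) : List (ℕ × ℕ × ℕ × ℤ) :=
  (List.range 78).map fun c => (k * diagExp.getD c 0, cond (Nat.beq j 0) c (graphPerm.getD c 0), c, 1)

/-- A monomial map on planes. -/
noncomputable def monoP (j k : ℕ) (v : ℕ × ℕ) : ℕ × ℕ := xsum (false, true) v (monoEntries j k)

/-- The derived vectors of the standard base. -/
noncomputable def valsOK : Bool :=
  ((List.range 78).all fun i => Nat.beq ((deriv xT (base8 v1) seq []).getD i 0) (vals.getD i 0)) &&
  (((List.range 45).all fun i => Nat.beq ((deriv xT (base8 0) (seq.take 45) []).getD i 0) (vals.getD i 0)) &&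
  ((allLt 78 vals && allLt 78 valsinv) &&
    ((List.range 78).all fun i => Nat.beq (lin vals (valsinv.getD i 0)) (2 ^ i)) &&
  ((List.range W1cond.length).all fun n =>
    let p := W1cond.getD n (0, 0)
    Nat.blt p.1 45 && Nat.beq (br (vals.getD p.1 0) v1 ^^^ cond (Nat.beq p.2 1) v1 0) 0)))

/-- One case of the last vector. -/
noncomputable def rigidOK (j : ℕ) : Bool :=
  ((List.range 45).all fun i => Nat.beq ((deriv (xJ j) (base8 0) (seq.take 45) []).getD i 0) ((imJ j).getD i 0)) &&
  ((Nat.beq (w1Q j).length W1cond.length && (allLt 2 (w1co j) && allLt 78 W1)) &&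
  (((List.range 78).all fun i =>
      Nat.beq (lin W1 ((w1co j).getD i 0) ^^^ corr (F1 j) 0 (w1Q j) (2 ^ i)) (2 ^ i)) &&
  ((List.range' 1 3).all fun c =>
    let k := (w1case j).getD (c - 1) 0
    let out := deriv (xJ j) (base8 (lin W1 c)) seq []
    Nat.blt k 3 && ((List.range 78).all fun i =>
      let u := monoP j k (lin PA (vals.getD i 0), lin PB (vals.getD i 0))
      Nat.beq u.1 (lin PA (out.getD i 0)) && Nat.beq u.2 (lin PB (out.getD i 0))))))

theorem orb60_checked : orb60OK = true := by decide +kernel

theorem root60_checked : root60OK = true := by decide +kernel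

theorem vals_checked : valsOK = true := by decide +kernel

theorem rigid_0 : rigidOK 0 = true := by decide +kernel

theorem rigid_1 : rigidOK 1 = true := by decide +kernel

end CfsgLib.Lie.E6Two
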