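import Cfsg.Agent.Lib.Lie.Twisted.E6Two.CheckGroup
import Cfsg.Agent.Lib.Lie.Twisted.E6Two.DataScan

set_option autoImplicit false
set_option maxRecDepth 100000

/-!
Kernel checks for the scan of the fixed space of the element of order five (owner: helper19).
-/

namespace CfsgLib.Lie.E6Two

open Data

/-- All truth values over `2 ^ n` arguments. -/
def fullT (n : ℕ) : ℕ := 2 ^ 2 ^ n - 1

/-- The truth table of a linear form. -/
def tabL (a : ℕ → Bool) : ℕ → ℕ
  | 0 => 0
  | n + 1 => tabL a n ||| ((tabL a n ^^^ cond (a n) (fullT n) 0) <<< 2 ^ n)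

/-- The truth table of a quadratic form. -/
def tabQ (B : ℕ → ℕ → Bool) : ℕ → ℕ
  | 0 => 0
  | n + 1 => tabQ B n ||| (((tabQ B n ^^^ tabL (fun i => Bool.xor (B (2 ^ i) (2 ^ n)) (B (2 ^ n) (2 ^ i))) n) ^^^
      cond (B (2 ^ n) (2 ^ n)) (fullT n) 0) <<< 2 ^ n)

/-- The bilinear form of one coordinate of the double bracket on the fixed space. -/
noncomputable def formB (p : ℕ × ℕ) (a b : ℕ) : Bool :=
  Nat.testBit (br (lin FX a) (br (lin FX b) (2 ^ p.1))) p.2

/-- The common zeros of the forms. -/
noncomputable def zeros : List (ℕ × ℕ) → ℕ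
  | [] => fullT 18
  | p :: L => (fullT 18 ^^^ tabQ (formB p) 18) &&& zeros L

/-- A set as a number. -/
def setBits : List ℕ → ℕ
  | [] => 0
  | c :: L => 2 ^ c ||| setBits L

/-- The element of order five. -/
noncomputable def xT : List ℕ := tb (iX.getD 0 0)

/-- One of the six generators of the complement. -/
noncomputable def aT (g : ℕ) : List ℕ := tb (iA.getD g 0)

/-- The first root vector. -/
noncomputable def eA : ℕ := R.getD 0 0

/-- The fixed space is spanned by `FX`. -/
noncomputable def fixOK : Bool :=
  (allLt 78 FX && (allLt 18 FXco && (allLt 78 B22 && (allLt 22 C22 && (allLt 78 R && allLt 78 V))))) &&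
    (((forms.all fun p => Nat.blt p.1 78) && (FX.all fun f => Nat.beq (lin xT f) f)) &&
      ((List.range 78).all fun i =>
        Nat.beq (lin FX (FXco.getD i 0) ^^^ lin FXQ (xT.getD i 0 ^^^ 2 ^ i)) (2 ^ i) &&
          (Nat.beq (lin B22 (C22.getD i 0)) (br eA (2 ^ i)) && Nat.beq (br eA (br eA (2 ^ i))) 0)))

/-- An orbit list. -/
noncomputable def orbitOK (L : List ℕ) (P : List (ℕ × ℕ)) : Bool :=
  (List.range' 1 (L.length - 1)).all fun n =>
    let p := P.getD n (0, 0)
    Nat.blt p.1 n && (Nat.blt p.2 6 && Nat.beq (lin (aT p.2) (L.getD p.1 0)) (L.getD n 0))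

/-- The listed zeros are zero or in one of the two orbits. -/
noncomputable def caseOK : Bool :=
  Nat.beq good.length 316 && (Nat.beq R.length 105 && (Nat.beq V.length 210 &&
    ((List.range 316).all fun n =>
      let p := goodix.getD n (0, 0)
      let v := lin FX (good.getD n 0)
      (Nat.beq p.1 2 && Nat.beq v 0) || ((Nat.beq p.1 0 && (Nat.blt p.2 105 && Nat.beq v (R.getD p.2 0))) ||
        (Nat.beq p.1 1 && (Nat.blt p.2 210 && Nat.beq v (V.getD p.2 0)))))))

/-- The rank certificates. -/
noncomputable def rankOK : Bool :=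
  (List.range 11).all fun n =>
    let e := rk.getD n (0, [], [])
    Nat.blt e.1 (2 ^ 78) && (Nat.beq e.2.1.length 23 && ((e.2.1.all fun j => Nat.blt j 78) &&
      ((List.range 23).all fun i => Nat.beq (lin e.2.2 (br e.1 (2 ^ e.2.1.getD i 0))) (2 ^ i))))

theorem fix_checked : fixOK = true := by decide +kernel

theorem zeros_checked : Nat.beq (zeros forms) (setBits good) = true := by decide +kernel

theorem orbit_R : orbitOK R Rpar = true := by decide +kernel

theorem orbit_V : orbitOK V Vpar = true := by decide +kernel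

theorem case_checked : caseOK = true := by decide +kernel

theorem rank_checked : rankOK = true := by decide +kernel

theorem vP_checked : Nat.beq (V.getD 0 0) (rk.getD 0 (0, [], [])).1 = true := by decide +kernel

end CfsgLib.Lie.E6Two
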