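import Cfsg.Agent.Lib.Lie.Twisted.E6Two.Bits
import Cfsg.Agent.Lib.Lie.Chev.All

set_option autoImplicit false

/-!
Vectors of the adjoint module of E6 over the field with four elements as pairs of bit planes, and the action of
root elements on them (owner: helper19).
-/

namespace CfsgLib.Lie.E6Two

open Cfsg.Lie CfsgLib.Lie.Chev
open scoped Matrix

/-- A generator of a field with four elements. -/
structure Four (K : Type*) [Field K] where
  /-- the generator -/
  w : K
  sq : w ^ 2 = w + 1
  two : (2 : K) = 0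

theorem exists_four {K : Type*} [Field K] [Fintype K] (hK : Fintype.card K = 4) : Nonempty (Four K) := by
  classical
  have h4 : ((4 : ℕ) : K) = 0 := hK ▸ Nat.cast_card_eq_zero K
  have h2 : (2 : K) = 0 := by
    have : (2 : K) * 2 = 0 := by rw [← h4]; norm_num
    exact mul_self_eq_zero.1 this
  obtain ⟨w, -, hw⟩ := Finset.exists_mem_notMem_of_card_lt_card (s := ({0, 1} : Finset K))
    (t := Finset.univ) (by rw [Finset.card_univ, hK]; exact lt_of_le_of_lt Finset.card_le_two (by norm_num))
  simp only [Finset.mem_insert, Finset.mem_singleton, not_or] at hw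
  refine ⟨⟨w, ?_, h2⟩⟩
  have hp := FiniteField.pow_card w
  rw [hK] at hp
  have h : w * ((w - 1) * (w ^ 2 + w + 1)) = 0 := by linear_combination hp
  have h3 := ((mul_eq_zero.1 h).resolve_left hw.1 |> mul_eq_zero.1).resolve_left (sub_ne_zero.2 hw.2)
  linear_combination h3 - (w + 1) * h2

/-- Product of coded field elements. -/
def bmul (a b : Bool × Bool) : Bool × Bool :=
  (Bool.xor (a.1 && b.1) (a.2 && b.2), Bool.xor (Bool.xor (a.1 && b.2) (a.2 && b.1)) (a.2 && b.2))

/-- Powers of coded field elements. -/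
def bpow (a : Bool × Bool) : ℕ → Bool × Bool
  | 0 => (true, false)
  | k + 1 => bmul (bpow a k) a

/-- The two planes of one entry of a root element applied to a vector. -/
def contrib (τ : Bool × Bool) (e : ℕ × ℕ × ℕ × ℤ) (v : ℕ × ℕ) : ℕ × ℕ :=
  cond (decide (e.2.2.2 % 2 = 0)) (0, 0)
    ((cond (bmul (bpow τ e.1) (Nat.testBit v.1 e.2.2.1, Nat.testBit v.2 e.2.2.1)).1 (2 ^ e.2.1) 0),
      (cond (bmul (bpow τ e.1) (Nat.testBit v.1 e.2.2.1, Nat.testBit v.2 e.2.2.1)).2 (2 ^ e.2.1) 0))

/-- The sparse part applied to a vector. -/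
def xsum (τ : Bool × Bool) (v : ℕ × ℕ) : List (ℕ × ℕ × ℕ × ℤ) → ℕ × ℕ
  | [] => (0, 0)
  | e :: L => ((contrib τ e v).1 ^^^ (xsum τ v L).1, (contrib τ e v).2 ^^^ (xsum τ v L).2)

/-- A root element applied to a vector. -/
def xact (r : ℕ) (τ : Bool × Bool) (v : ℕ × ℕ) : ℕ × ℕ :=
  (v.1 ^^^ (xsum τ v (entries chevE6 r)).1, v.2 ^^^ (xsum τ v (entries chevE6 r)).2)

/-- A word applied to a vector. -/
def wact : List (ℕ × Bool × Bool) → ℕ × ℕ → ℕ × ℕ
  | [], v => v
  | p :: w, v => xact p.1 p.2 (wact w v)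

theorem code_lt78 (a : chevE6.Idx) : code chevE6 a < 78 := code_lt chevE6 a

variable {K : Type*} [Field K] (S : Four K)

/-- A coded field element. -/
def Four.bd (p : Bool × Bool) : K := cond p.1 1 0 + cond p.2 S.w 0

/-- The vector with the given planes. -/
def Four.vec (v : ℕ × ℕ) : chevE6.Idx → K :=
  fun a => S.bd (Nat.testBit v.1 (code chevE6 a), Nat.testBit v.2 (code chevE6 a))

theorem Four.bd_zero : S.bd (false, false) = 0 := add_zero 0

theorem Four.bd_one : S.bd (true, false) = 1 := add_zero 1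

theorem Four.bd_add (p q : Bool × Bool) : S.bd (Bool.xor p.1 q.1, Bool.xor p.2 q.2) = S.bd p + S.bd q := by
  obtain ⟨a, b⟩ := p
  obtain ⟨c, d⟩ := q
  have h1 : (1 : K) + 1 = 0 := by linear_combination S.two
  cases a <;> cases b <;> cases c <;> cases d <;>
    simp only [Four.bd, Bool.xor_false, Bool.xor_true, Bool.not_true, Bool.not_false, cond_true, cond_false] <;>
    first | ring1 | linear_combination (-(1 : K)) * S.two | linear_combination -S.w * S.two |
      linear_combination -(1 + S.w) * S.two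

theorem Four.bd_mul (p q : Bool × Bool) : S.bd (bmul p q) = S.bd p * S.bd q := by
  obtain ⟨a, b⟩ := p
  obtain ⟨c, d⟩ := q
  have h := S.sq
  cases a <;> cases b <;> cases c <;> cases d <;>
    simp only [Four.bd, bmul, Bool.and_false, Bool.and_true, Bool.xor_false, Bool.xor_true, Bool.not_true,
      Bool.not_false, cond_true, cond_false] <;>
    first | ring1 | linear_combination -h | linear_combination -h - S.w * S.two |
      linear_combination -h - (1 + S.w) * S.two | linear_combination -h - S.two | linear_combination -h + S.two |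
      linear_combination -h + S.w * S.two

theorem Four.bd_pow (p : Bool × Bool) : ∀ k, S.bd (bpow p k) = S.bd p ^ k
  | 0 => (Four.bd_one S).trans (pow_zero _).symm
  | k + 1 => by rw [bpow, Four.bd_mul, Four.bd_pow p k, pow_succ]

theorem Four.w_ne : S.w ≠ 0 ∧ S.w ≠ 1 ∧ 1 + S.w ≠ 0 := by
  have h := S.sq
  refine ⟨fun e => ?_, fun e => ?_, fun e => ?_⟩
  · rw [e] at h; exact one_ne_zero (by linear_combination -h : (1 : K) = 0)
  · rw [e] at h; exact one_ne_zero (by linear_combination -h : (1 : K) = 0)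
  · have : S.w = -1 := by linear_combination e
    rw [this] at h; exact one_ne_zero (by linear_combination h : (1 : K) = 0)

theorem Four.bd_eq_zero {p : Bool × Bool} (h : S.bd p = 0) : p = (false, false) := by
  obtain ⟨h1, -, h3⟩ := S.w_ne
  obtain ⟨a, b⟩ := p
  cases a <;> cases b <;> simp_all [Four.bd]

theorem Four.bd_inj {p q : Bool × Bool} (h : S.bd p = S.bd q) : p = q := by
  have := S.bd_eq_zero (p := (Bool.xor p.1 q.1, Bool.xor p.2 q.2))
    (by rw [S.bd_add, h]; linear_combination S.bd q * S.two)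
  obtain ⟨a, b⟩ := p
  obtain ⟨c, d⟩ := q
  revert this
  cases a <;> cases b <;> cases c <;> cases d <;> simp

theorem Four.bd_surj [Fintype K] (hK : Fintype.card K = 4) (t : K) : ∃ p, S.bd p = t := by
  have hi : Function.Injective S.bd := fun p q h => S.bd_inj h
  exact ((Fintype.bijective_iff_injective_and_card _).2 ⟨hi, by rw [hK]; rfl⟩).2 t

theorem Four.vec_add (u v : ℕ × ℕ) : S.vec (u.1 ^^^ v.1, u.2 ^^^ v.2) = S.vec u + S.vec v := by
  funext a
  simp only [Four.vec, Pi.add_apply, Nat.testBit_xor]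
  exact S.bd_add (_, _) (_, _)

theorem Four.vec_zero : S.vec (0, 0) = 0 := by
  funext a
  simp [Four.vec, Four.bd]

theorem Four.vec_inj {u v : ℕ × ℕ} (h : S.vec u = S.vec v) (hu : u.1 < 2 ^ 78 ∧ u.2 < 2 ^ 78)
    (hv : v.1 < 2 ^ 78 ∧ v.2 < 2 ^ 78) : u = v := by
  have key : ∀ j, Nat.testBit u.1 j = Nat.testBit v.1 j ∧ Nat.testBit u.2 j = Nat.testBit v.2 j := by
    intro j
    rcases lt_or_ge j 78 with hj | hj
    · obtain ⟨a, rfl⟩ := exists_code chevE6 (j := j) hj
      have := S.bd_inj (congrFun h a)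
      simp only [Prod.mk.injEq] at this
      exact this
    · have hp := Nat.pow_le_pow_right (show 0 < 2 by norm_num) hj
      rw [Nat.testBit_lt_two_pow (hu.1.trans_le hp), Nat.testBit_lt_two_pow (hu.2.trans_le hp),
        Nat.testBit_lt_two_pow (hv.1.trans_le hp), Nat.testBit_lt_two_pow (hv.2.trans_le hp)]
      exact ⟨rfl, rfl⟩
  exact Prod.ext (Nat.eq_of_testBit_eq fun j => (key j).1) (Nat.eq_of_testBit_eq fun j => (key j).2)

include S in
theorem Four.cast_parity (c : ℤ) : (c : K) = if c % 2 = 0 then 0 else 1 := by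
  have h : (c : K) = ((2 * (c / 2) + c % 2 : ℤ) : K) := congrArg _ (Int.mul_ediv_add_emod c 2).symm
  rw [h, Int.cast_add, Int.cast_mul, Int.cast_ofNat, S.two, zero_mul, zero_add]
  rcases Int.emod_two_eq_zero_or_one c with e | e <;> simp [e]

theorem Four.matOf_mulVec (τ : Bool × Bool) (v : ℕ × ℕ) :
    ∀ L : List (ℕ × ℕ × ℕ × ℤ), (∀ e ∈ L, e.2.2.1 < 78) →
      matOf chevE6 L (S.bd τ) *ᵥ S.vec v = S.vec (xsum τ v L)
  | [], _ => by rw [matOf_nil, Matrix.zero_mulVec, xsum, S.vec_zero]
  | e :: L, h => by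
    rw [show matOf chevE6 (e :: L) (S.bd τ) = matOf chevE6 [e] (S.bd τ) + matOf chevE6 L (S.bd τ) from
        matOf_append chevE6 [e] L _, Matrix.add_mulVec,
      Four.matOf_mulVec τ v L fun f hf => h f (List.mem_cons_of_mem _ hf), xsum, S.vec_add]
    congr 1
    obtain ⟨b, hb⟩ := exists_code chevE6 (j := e.2.2.1) (h e List.mem_cons_self)
    funext a
    simp only [Matrix.mulVec, dotProduct, matOf, Matrix.of_apply, List.map_cons, List.map_nil, List.sum_cons,
      List.sum_nil, add_zero]
    rw [Finset.sum_eq_single b (fun c _ hc => by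
        rw [if_neg fun h' => hc (code_injective chevE6 (h'.2.symm.trans hb.symm)), zero_mul]) (by simp),
      S.cast_parity]
    simp only [Four.vec, contrib, hb, and_true]
    by_cases hpar : e.2.2.2 % 2 = 0
    · simp [hpar, Four.bd]
    · simp only [if_neg hpar, one_mul, decide_eq_false hpar, cond_false]
      by_cases ha : e.2.1 = code chevE6 a
      · rw [if_pos ha, ← S.bd_pow, ← S.bd_mul]
        congr 1
        refine Prod.ext ?_ ?_ <;> simp only [ha] <;>
          cases (bmul (bpow τ e.1) (Nat.testBit v.1 e.2.2.1, Nat.testBit v.2 e.2.2.1)).1 <;>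
          cases (bmul (bpow τ e.1) (Nat.testBit v.1 e.2.2.1, Nat.testBit v.2 e.2.2.1)).2 <;>
          simp
      · rw [if_neg ha, zero_mul, ← S.bd_zero]
        congr 1
        refine Prod.ext ?_ ?_ <;>
          cases (bmul (bpow τ e.1) (Nat.testBit v.1 e.2.2.1, Nat.testBit v.2 e.2.2.1)).1 <;>
          cases (bmul (bpow τ e.1) (Nat.testBit v.1 e.2.2.1, Nat.testBit v.2 e.2.2.1)).2 <;>
          simp [ha]

theorem Four.x_mulVec {r : ℕ} (hr : r < 72) (τ : Bool × Bool) (v : ℕ × ℕ) :
    chevE6.x K r (S.bd τ) *ᵥ S.vec v = S.vec (xact r τ v) := by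
  rw [xMat_eq chevE6 (show r < chevE6.nroots from hr) (certE6.neg_ne hr) (certE6.key_ne hr), Matrix.add_mulVec,
    Matrix.one_mulVec, S.matOf_mulVec τ v _ (certE6.entries_col_lt hr), xact, S.vec_add]

theorem Four.word_mulVec : ∀ (w : List (ℕ × Bool × Bool)), (∀ p ∈ w, p.1 < 72) → ∀ v : ℕ × ℕ,
    chevE6.wordMat K (w.map fun p => (p.1, S.bd p.2)) *ᵥ S.vec v = S.vec (wact w v)
  | [], _, v => by simp [ChevalleyDatum.wordMat, wact]
  | p :: w, h, v => by
    simp only [ChevalleyDatum.wordMat, List.map_cons, List.prod_cons, wact]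
    rw [← Matrix.mulVec_mulVec]
    have := Four.word_mulVec w (fun q hq => h q (List.mem_cons_of_mem _ hq)) v
    simp only [ChevalleyDatum.wordMat] at this
    rw [this, S.x_mulVec (h p List.mem_cons_self)]

end CfsgLib.Lie.E6Two
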