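import Cfsg.Agent.Lib.Lie.Twisted.E6Two.Scan
import Cfsg.Agent.Lib.Lie.Twisted.E6Two.CheckFrame

set_option autoImplicit false
set_option maxRecDepth 20000

/-!
An element centralising the element of order five fixes, up to the complement and the swap, six root vectors
(owner: helper19).
-/

namespace CfsgLib.Lie.E6Two

open Data

theorem inR_iff {w : ℕ} : inR w = true ↔ ∃ i < 105, w = R.getD i 0 := by
  simp only [inR, List.any_eq_true]
  constructor
  · rintro ⟨r, hr, h⟩
    obtain ⟨i, hi, rfl⟩ := List.getElem_of_mem hr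
    exact ⟨i, case_facts.2.1 ▸ hi, by rw [beq_eq h, List.getD_eq_getElem _ _ hi]⟩
  · rintro ⟨i, hi, rfl⟩
    have hi' : i < R.length := case_facts.2.1.symm ▸ hi
    refine ⟨_, List.getElem_mem hi', ?_⟩
    rw [List.getD_eq_getElem _ _ hi', Nat.beq_refl]

theorem inR_lt {w : ℕ} (h : inR w = true) : w < 2 ^ 78 := by
  obtain ⟨i, -, rfl⟩ := inR_iff.1 h
  exact R_lt i

theorem swap_facts : (∀ i < 6, inR (six.getD i 0) = true ∧ inR (six2.getD i 0) = true ∧
      lin (tb iN0) (six2.getD i 0) = six.getD i 0) ∧ (∀ i < 2, six2.getD i 0 = six.getD i 0) ∧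
    ∀ i < 78, lin (tb iN0) (xT.getD i 0) = lin (tb iXg) ((tb iN0).getD i 0) ∧
      ∀ g < 6, lin (aT g) (xT.getD i 0) = lin xT ((aT g).getD i 0) := by
  have h := swap_checked
  simp only [swapOK, Bool.and_eq_true, List.all_eq_true, List.mem_range] at h
  obtain ⟨a, b, c⟩ := h
  refine ⟨fun i hi => ⟨(a i hi).1, (a i hi).2.1, beq_eq (a i hi).2.2⟩, fun i hi => ?_, fun i hi =>
    ⟨beq_eq (c i hi).1, fun g hg => beq_eq ((c i hi).2 g hg)⟩⟩
  have := beq_eq (b i (by omega))
  rw [show Nat.beq i 2 = false from Bool.eq_false_iff.2 fun e => by have := beq_eq e; omega] at this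
  exact this

variable {K : Type*} [Field K] [Fintype K] {S : Four K} {hK : Fintype.card K = 4}

theorem mul_eq_mul_of_basis {g h g' h' : Four.E K}
    (e : ∀ i < 78, S.act hK g (S.act hK h (2 ^ i)) = S.act hK g' (S.act hK h' (2 ^ i))) : g * h = g' * h' := by
  refine eq_of_act (S := S) (hK := hK) fun m hm => ?_
  have key : ∀ n ≤ 78, ∀ m < 2 ^ n, S.act hK (g * h) m = S.act hK (g' * h') m := by
    intro n
    induction n with
    | zero =>
      intro _ m hm
      obtain rfl : m = 0 := by simpa using hm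
      rw [act_zero, act_zero]
    | succ n ih =>
      intro hn m hm
      obtain ⟨a, ha, rfl | rfl⟩ := split_top hm
      · exact ih (by omega) _ ha
      · have hal : a < 2 ^ 78 := ha.trans_le (Nat.pow_le_pow_right (by norm_num) (by omega))
        rw [act_xor _ hal (pow78_lt (by omega)), act_xor _ hal (pow78_lt (by omega)), ih (by omega) _ ha,
          act_mul _ _ (pow78_lt (by omega)), act_mul _ _ (pow78_lt (by omega)), e n (by omega)]
  exact key 78 le_rfl m hm

theorem el_rel {a b c d : ℕ} (ha : a < 240) (hb : b < 240) (hc : c < 240) (hd : d < 240)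
    (h : ∀ i < 78, lin (tb a) ((tb b).getD i 0) = lin (tb c) ((tb d).getD i 0)) :
    S.el hK a * S.el hK b = S.el hK c * S.el hK d := by
  refine mul_eq_mul_of_basis (S := S) (hK := hK) fun i hi => ?_
  rw [act_el hb (pow78_lt hi), act_el hd (pow78_lt hi), lin_single _ (by omega), lin_single _ (by omega)]
  have hlt : ∀ k < 240, (tb k).getD i 0 < 2 ^ 78 := fun k hk => by
    have := act_lt (S := S) (hK := hK) (g := S.el hK k) (pow78_lt hi)
    rwa [act_el hk (pow78_lt hi), lin_single _ (by omega)] at this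
  rw [act_el ha (hlt b hb), act_el hc (hlt d hd)]
  exact h i hi

theorem ids_swap : iN0 < 240 ∧ iXg < 240 := by decide +kernel

theorem A_comm {a : Four.E K} (ha : a ∈ S.A hK) : Commute a (S.x hK) := by
  induction ha using Subgroup.closure_induction with
  | mem y hy =>
    obtain ⟨g, hg, rfl⟩ := hy
    exact el_rel (ids_lt.2 g hg) (ids_lt.1 0 (by norm_num)).1 (ids_lt.1 0 (by norm_num)).1 (ids_lt.2 g hg)
      fun i hi => (swap_facts.2.2 i hi).2 g hg
  | one => exact Commute.one_left _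
  | mul _ _ _ _ ha hb => exact ha.mul_left hb
  | inv _ _ ha => exact ha.inv_left

/-- The swap. -/
noncomputable def Four.n0 (S : Four K) (hK : Fintype.card K = 4) : Four.E K := S.el hK iN0

/-- The image of the element of order five under the swap. -/
noncomputable def Four.xg (S : Four K) (hK : Fintype.card K = 4) : Four.E K := S.el hK iXg

theorem n0_conj : S.n0 hK * S.x hK = S.xg hK * S.n0 hK :=
  el_rel ids_swap.1 (ids_lt.1 0 (by norm_num)).1 ids_swap.2 ids_swap.1 fun i hi => (swap_facts.2.2 i hi).1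

theorem x_fix {v : ℕ} (h : inR v = true) : S.act hK (S.x hK) v = v := by
  obtain ⟨i, hi, rfl⟩ := inR_iff.1 h
  obtain ⟨a, ha, e⟩ := R_orbit (S := S) (hK := hK) hi
  have h0 : S.act hK (S.x hK) eA = eA := by
    rw [act_x eA_lt]
    exact eA_fixed
  rw [← e, ← act_mul _ _ eA_lt, ← (A_comm ha).eq, act_mul _ _ eA_lt, h0]
where
  eA_fixed : lin xT eA = eA := by decide +kernel

theorem mapsR {g : Four.E K} (hg : Commute g (S.x hK)) {v : ℕ} (hv : inR v = true) :
    inR (S.act hK g v) = true := by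
  obtain ⟨i, hi, rfl⟩ := inR_iff.1 hv
  obtain ⟨a, ha, e⟩ := R_orbit (S := S) (hK := hK) hi
  have h := x_fix (S := S) (hK := hK) hv
  rw [inR_iff, ← e, ← act_mul _ _ eA_lt]
  refine root_image ?_
  rw [act_mul g a eA_lt, e, ← act_mul _ _ (R_lt i), ← hg.eq, act_mul _ _ (R_lt i), h]

theorem inR_act {g : Four.E K} (hg : Commute g (S.x hK)) {v : ℕ} (hv : v < 2 ^ 78) :
    inR (S.act hK g v) = inR v := by
  rw [Bool.eq_iff_iff]
  refine ⟨fun h => ?_, mapsR hg⟩
  have := mapsR hg.inv_left h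
  rwa [act_inv g hv] at this

theorem rel_act {g : Four.E K} (hg : Commute g (S.x hK)) {u v : ℕ} (hu : u < 2 ^ 78) (hv : v < 2 ^ 78) :
    rel (S.act hK g u) (S.act hK g v) = rel u v := by
  simp only [rel, ← act_br hu hv, ← act_xor g hu hv, inR_act hg (br_lt u v),
    inR_act hg (Nat.xor_lt_two_pow hu hv)]
  congr 1
  rw [Bool.eq_iff_iff]
  refine ⟨fun h => ?_, fun h => ?_⟩
  · rw [show br u v = 0 from act_inj g (br_lt u v) (by norm_num) ((beq_eq h).trans (act_zero g).symm)]
    rfl
  · rw [beq_eq h, act_zero]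
    rfl

theorem wordA_spec : ∀ w : List ℕ, (∀ g ∈ w, g < 6) →
    ∃ a ∈ S.A hK, ∀ m < 2 ^ 78, S.act hK a m = wordA w m
  | [], _ => ⟨1, one_mem _, fun m hm => act_one hm⟩
  | g :: w, h => by
    obtain ⟨a, ha, e⟩ := wordA_spec w fun k hk => h k (List.mem_cons_of_mem _ hk)
    refine ⟨S.gA hK g * a, mul_mem (gA_mem (h g List.mem_cons_self)) ha, fun m hm => ?_⟩
    rw [act_mul _ _ hm, act_gA (h g List.mem_cons_self) (act_lt hm), e m hm, wordA]

theorem stage {P Q : List ℕ} {i : ℕ} {ents : List (ℕ × ℕ × List ℕ)} (h : stageOK P Q i ents = true)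
    (hP : ∀ j ≤ i, inR (P.getD j 0) = true) {g : Four.E K} (hg : Commute g (S.x hK))
    (hQ : ∀ j < i, S.act hK g (P.getD j 0) = Q.getD j 0) :
    ∃ a ∈ S.A hK, (∀ j < i, S.act hK (a * g) (P.getD j 0) = Q.getD j 0) ∧
      (S.act hK (a * g) (P.getD i 0) = Q.getD i 0 ∨
        (i = 2 ∧ S.act hK (a * g) (P.getD i 0) = six2.getD i 0)) := by
  obtain ⟨n, hn, hv⟩ := inR_iff.1 (mapsR hg (hP i le_rfl))
  simp only [stageOK, List.all_eq_true, List.mem_range, Bool.or_eq_true, List.any_eq_true, Bool.and_eq_true] at h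
  obtain ⟨e, -, -, hw, ht, hm, hf⟩ := (h n hn).resolve_left fun hne => by
    rw [Bool.not_eq_true', Bool.eq_false_iff] at hne
    refine hne (List.all_eq_true.2 fun j hj => decide_eq_true ?_)
    rw [List.mem_range] at hj
    rw [← hQ j hj, ← hv, rel_act hg (inR_lt (hP j hj.le)) (inR_lt (hP i le_rfl))]
  obtain ⟨a, ha, ea⟩ := wordA_spec (S := S) (hK := hK) e.2.2 fun k hk => blt_lt (hw k hk)
  refine ⟨a, ha, fun j hj => ?_, ?_⟩
  · rw [act_mul _ _ (inR_lt (hP j hj.le)), hQ j hj, ea _ (hQ j hj ▸ act_lt (inR_lt (hP j hj.le)))]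
    exact beq_eq (hf j hj)
  · have he : S.act hK (a * g) (P.getD i 0) = tgt Q i e.2.1 := by
      rw [act_mul _ _ (inR_lt (hP i le_rfl)), hv, ea _ (R_lt n)]
      exact beq_eq hm
    rw [tgt] at he
    cases hb : Nat.beq e.2.1 0 <;> rw [hb] at he
    · exact Or.inr ⟨beq_eq (ht.resolve_left (by rw [hb]; exact Bool.false_ne_true)), he⟩
    · exact Or.inl he

theorem six_inR {i : ℕ} (hi : i < 6) : inR (six.getD i 0) = true := (swap_facts.1 i hi).1

theorem stA_get {i : ℕ} (hi : i < 6) : stageOK six six i (stA.getD i []) = true := by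
  interval_cases i
  exacts [stA_0, stA_1, stA_2, stA_3, stA_4, stA_5]

theorem stB_get {i : ℕ} (hi : i < 6) (h3 : 3 ≤ i) : stageOK six six2 i (stB.getD i []) = true := by
  interval_cases i
  exacts [stB_3, stB_4, stB_5]

/-- Reduction of the six vectors. -/
theorem reduce_six {g : Four.E K} (hg : Commute g (S.x hK)) :
    ∃ a ∈ S.A hK, (∀ i < 6, S.act hK (a * g) (six.getD i 0) = six.getD i 0) ∨
      ∀ i < 6, S.act hK (S.n0 hK * (a * g)) (six.getD i 0) = six.getD i 0 := by
  have key : ∀ k ≤ 6, ∃ a ∈ S.A hK, (∀ j < k, S.act hK (a * g) (six.getD j 0) = six.getD j 0) ∨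
      (3 ≤ k ∧ ∀ j < k, S.act hK (a * g) (six.getD j 0) = six2.getD j 0) := by
    intro k
    induction k with
    | zero => exact fun _ => ⟨1, one_mem _, Or.inl fun j hj => absurd hj (Nat.not_lt_zero j)⟩
    | succ k ih =>
      intro hk
      obtain ⟨a, ha, hA | ⟨h3, hB⟩⟩ := ih (by omega)
      · obtain ⟨b, hb, hold, hnew⟩ := stage (stA_get (i := k) (by omega)) (fun j hj => six_inR (by omega))
          ((A_comm ha).mul_left hg) hA
        refine ⟨b * a, mul_mem hb ha, ?_⟩
        rcases hnew with hnew | ⟨rfl, hnew⟩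
        · refine Or.inl fun j hj => ?_
          rw [mul_assoc]
          rcases Nat.lt_succ_iff_lt_or_eq.1 hj with h | rfl
          exacts [hold j h, hnew]
        · refine Or.inr ⟨le_rfl, fun j hj => ?_⟩
          rw [mul_assoc]
          rcases Nat.lt_succ_iff_lt_or_eq.1 hj with h | rfl
          · rw [hold j h, swap_facts.2.1 j h]
          · exact hnew
      · obtain ⟨b, hb, hold, hnew⟩ := stage (stB_get (i := k) (by omega) h3) (fun j hj => six_inR (by omega))
          ((A_comm ha).mul_left hg) hB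
        refine ⟨b * a, mul_mem hb ha, Or.inr ⟨by omega, fun j hj => ?_⟩⟩
        rw [mul_assoc]
        rcases Nat.lt_succ_iff_lt_or_eq.1 hj with h | rfl
        · exact hold j h
        · exact hnew.resolve_right fun e => by omega
  obtain ⟨a, ha, h | ⟨-, h⟩⟩ := key 6 le_rfl
  · exact ⟨a, ha, Or.inl h⟩
  · refine ⟨a, ha, Or.inr fun i hi => ?_⟩
    rw [act_mul _ _ (inR_lt (six_inR hi)), h i hi, Four.n0,
      act_el ids_swap.1 (inR_lt (swap_facts.1 i hi).2.1)]
    exact (swap_facts.1 i hi).2.2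

end CfsgLib.Lie.E6Two
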