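import Cfsg.Agent.Lib.Lie.Twisted.E6Two.Cent
import Cfsg.Agent.Lib.Lie.Twisted.E6Torus

set_option autoImplicit false
set_option maxRecDepth 20000

/-!
The elements of order five are conjugate: a Sylow group of order twenty five whose nontrivial elements are fused
(owner: helper19).
-/

namespace CfsgLib.Lie.E6Two

open Data Cfsg.Lie CfsgLib.Lie.Chev

theorem fuse_ids : iFa < 240 ∧ iFb < 240 ∧ iFy < 240 ∧ iFxy < 240 := by decide +kernel

theorem fuse_facts : ∀ i < 78,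
    (lin (tb iFa) (xT.getD i 0) = lin xT (lin (tb iFa) (2 ^ i)) ∧
      lin (tb iFa) (yT.getD i 0) = iterLin yT 2 (lin (tb iFa) (2 ^ i))) ∧
    (lin (tb iFb) (xT.getD i 0) = iterLin xT 3 (lin (tb iFb) (2 ^ i)) ∧
      lin (tb iFb) (yT.getD i 0) = iterLin yT 2 (lin (tb iFb) (2 ^ i))) ∧
    lin (tb iFy) (yT.getD i 0) = iterLin xT 4 (lin (tb iFy) (2 ^ i)) ∧
      lin (tb iFxy) (lin xT (yT.getD i 0)) = lin xT (lin (tb iFxy) (2 ^ i)) := by
  have h := fuse_checked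
  simp only [fuseOK, Bool.and_eq_true, List.all_eq_true, List.mem_range] at h
  exact fun i hi => ⟨⟨beq_eq (h i hi).1.1, beq_eq (h i hi).1.2⟩, ⟨beq_eq (h i hi).2.1.1, beq_eq (h i hi).2.1.2⟩,
    beq_eq (h i hi).2.2.1, beq_eq (h i hi).2.2.2⟩

variable {K : Type*} [Field K] [Fintype K]

/-- The second generator of the Sylow group. -/
noncomputable def Four.y (S : Four K) (hK : Fintype.card K = 4) : Four.E K := S.el hK (iY.getD 0 0)

variable {S : Four K} {hK : Fintype.card K = 4}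

theorem act_y {m : ℕ} (hm : m < 2 ^ 78) : S.act hK (S.y hK) m = lin yT m :=
  act_el (ids_lt.1 0 (by norm_num)).2 hm

theorem semiconj_of_basis {g a : Four.E K} {L M : List ℕ} {n : ℕ} (hg : ∀ m < 2 ^ 78, S.act hK g m = lin L m)
    {b : Four.E K} (hb : ∀ m < 2 ^ 78, S.act hK b m = lin M m) (ha : ∀ i < 78, S.act hK a (2 ^ i) < 2 ^ 78)
    (h : ∀ i < 78, lin L (S.act hK a (2 ^ i)) = iterLin M n (lin L (2 ^ i))) : SemiconjBy g a (b ^ n) :=
  mul_eq_mul_of_basis (S := S) (hK := hK) fun i hi => by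
    rw [hg _ (ha i hi), act_pow hb (act_lt (pow78_lt hi)), hg _ (pow78_lt hi)]
    exact h i hi

theorem act_single {g : Four.E K} {L : List ℕ} (hg : ∀ m < 2 ^ 78, S.act hK g m = lin L m) {i : ℕ} (hi : i < 78) :
    S.act hK g (2 ^ i) = L.getD i 0 := by
  rw [hg _ (pow78_lt hi), lin_single _ (by omega)]

theorem fusion_rels :
    (∃ g : Four.E K, SemiconjBy g (S.x hK) (S.x hK) ∧ SemiconjBy g (S.y hK) (S.y hK ^ 2)) ∧
    (∃ g : Four.E K, SemiconjBy g (S.x hK) (S.x hK ^ 3) ∧ SemiconjBy g (S.y hK) (S.y hK ^ 2)) ∧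
    (∃ g : Four.E K, SemiconjBy g (S.y hK) (S.x hK ^ 4)) ∧
    ∃ g : Four.E K, SemiconjBy g (S.x hK * S.y hK) (S.x hK) := by
  obtain ⟨ia, ib, iy, ixy⟩ := fuse_ids
  have hl : ∀ (a : Four.E K), ∀ i < 78, S.act hK a (2 ^ i) < 2 ^ 78 := fun a i hi => act_lt (pow78_lt hi)
  have hx : ∀ m < 2 ^ 78, S.act hK (S.x hK) m = lin xT m := fun _ hm => act_x hm
  have hy : ∀ m < 2 ^ 78, S.act hK (S.y hK) m = lin yT m := fun _ hm => act_y hm
  refine ⟨⟨S.el hK iFa, ?_, ?_⟩, ⟨S.el hK iFb, ?_, ?_⟩, ⟨S.el hK iFy, ?_⟩, ⟨S.el hK iFxy, ?_⟩⟩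
  · rw [show SemiconjBy (S.el hK iFa) (S.x hK) (S.x hK) ↔ SemiconjBy (S.el hK iFa) (S.x hK) (S.x hK ^ 1) by
      rw [pow_one]]
    refine semiconj_of_basis (fun _ hm => act_el ia hm) hx (hl _) fun i hi => ?_
    rw [act_single hx hi]
    exact (fuse_facts i hi).1.1
  · refine semiconj_of_basis (fun _ hm => act_el ia hm) hy (hl _) fun i hi => ?_
    rw [act_single hy hi]
    exact (fuse_facts i hi).1.2
  · refine semiconj_of_basis (fun _ hm => act_el ib hm) hx (hl _) fun i hi => ?_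
    rw [act_single hx hi]
    exact (fuse_facts i hi).2.1.1
  · refine semiconj_of_basis (fun _ hm => act_el ib hm) hy (hl _) fun i hi => ?_
    rw [act_single hy hi]
    exact (fuse_facts i hi).2.1.2
  · refine semiconj_of_basis (fun _ hm => act_el iy hm) hx (hl _) fun i hi => ?_
    rw [act_single hy hi]
    exact (fuse_facts i hi).2.2.1
  · rw [show S.x hK = S.x hK ^ 1 from (pow_one _).symm]
    refine semiconj_of_basis (fun _ hm => act_el ixy hm) hx (hl _) fun i hi => ?_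
    rw [pow_one, act_mul _ _ (pow78_lt hi), act_single hy hi,
      hx _ ((act_single (S := S) (hK := hK) hy hi) ▸ act_lt (pow78_lt hi))]
    exact (fuse_facts i hi).2.2.2

theorem y_facts : S.y hK ^ 5 = 1 ∧ S.y hK ≠ 1 ∧ Commute (S.x hK) (S.y hK) ∧
    ∀ n : ℕ, S.act hK (S.y hK ^ n) uA = uA := by
  have hy : ∀ m < 2 ^ 78, S.act hK (S.y hK) m = lin yT m := fun _ hm => act_y hm
  refine ⟨pow_eq_one hy fun i hi => (order_facts.1 i hi).2.1, fun e => ?_, ?_, fun n => ?_⟩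
  · obtain ⟨i, hi, hne⟩ := order_facts.2.2.2
    apply hne
    rw [← act_single (S := S) (hK := hK) hy hi, e, act_one (pow78_lt hi)]
  · refine mul_eq_mul_of_basis (S := S) (hK := hK) fun i hi => ?_
    have hx : ∀ m < 2 ^ 78, S.act hK (S.x hK) m = lin xT m := fun _ hm => act_x hm
    rw [hx _ (act_lt (pow78_lt hi)), hy (S.act hK (S.x hK) (2 ^ i)) (act_lt (pow78_lt hi)), act_single hy hi,
      act_single hx hi]
    exact (order_facts.1 i hi).2.2
  · induction n with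
    | zero => rw [pow_zero, act_one order_facts.2.1.1]
    | succ n ih => rw [pow_succ, act_mul _ _ order_facts.2.1.1, hy _ order_facts.2.1.1, order_facts.2.1.2.1, ih]

theorem xy_eq_one {i j : ℕ} (h : S.x hK ^ i * S.y hK ^ j = 1) : i % 5 = 0 ∧ j % 5 = 0 := by
  obtain ⟨h5, h1, -, hfix⟩ := y_facts (S := S) (hK := hK)
  have hi : i % 5 = 0 := by
    by_contra hne
    refine x_pow_ne (S := S) (hK := hK) hne ?_
    conv_lhs => rw [← hfix j, ← act_mul _ _ order_facts.2.1.1, h, act_one order_facts.2.1.1]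
  rw [pow_eq_pow_mod i x_pow_five, hi, pow_zero, one_mul] at h
  haveI : Fact (Nat.Prime 5) := ⟨by norm_num⟩
  have := orderOf_dvd_of_pow_eq_one h
  rw [orderOf_eq_prime h5 h1] at this
  exact ⟨hi, Nat.mod_eq_zero_of_dvd this⟩

theorem conj_x {i j : ℕ} (h : ¬(i % 5 = 0 ∧ j % 5 = 0)) : IsConj (S.x hK) (S.x hK ^ i * S.y hK ^ j) := by
  obtain ⟨⟨a, ax, ay⟩, ⟨b, bx, by'⟩, ⟨c, cy⟩, ⟨d, dxy⟩⟩ := fusion_rels (S := S) (hK := hK)
  have hs : ∀ {g u v : Four.E K}, SemiconjBy g u v → IsConj u v := fun {g u v} e =>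
    isConj_iff.2 ⟨g, by rw [e.eq, mul_inv_cancel_right]⟩
  let C : ℕ → ℕ → Prop := fun i j => IsConj (S.x hK) (S.x hK ^ i * S.y hK ^ j)
  have sa : ∀ i j, C i j → C i (2 * j) := fun i j e => e.trans (by
    have := (ax.pow_right i).mul_right (ay.pow_right j)
    rw [← pow_mul] at this
    exact hs this)
  have sb : ∀ i j, C i j → C (3 * i) (2 * j) := fun i j e => e.trans (by
    have := (bx.pow_right i).mul_right (by'.pow_right j)
    rw [← pow_mul, ← pow_mul] at this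
    exact hs this)
  have sak : ∀ k i j, C i j → C i (2 ^ k * j) := fun k i j e => by
    induction k with
    | zero => rwa [pow_zero, one_mul]
    | succ k ih => rw [pow_succ', mul_assoc]; exact sa _ _ ih
  have sbl : ∀ l i j, C i j → C (3 ^ l * i) (2 ^ l * j) := fun l i j e => by
    induction l with
    | zero => rwa [pow_zero, pow_zero, one_mul, one_mul]
    | succ l ih => rw [pow_succ', pow_succ', mul_assoc, mul_assoc]; exact sb _ _ ih
  have b10 : C 1 0 := by show IsConj _ _; rw [pow_one, pow_zero, mul_one]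
  have b11 : C 1 1 := by show IsConj _ _; rw [pow_one, pow_one]; exact (hs dxy).symm
  have hmod : ∀ i j i' j', i % 5 = i' % 5 → j % 5 = j' % 5 → C i' j' → C i j := fun i j i' j' e1 e2 e => by
    show IsConj _ _
    rw [pow_eq_pow_mod i x_pow_five, pow_eq_pow_mod j y_facts.1, e1, e2, ← pow_eq_pow_mod i' x_pow_five,
      ← pow_eq_pow_mod j' y_facts.1]
    exact e
  have b01 : C 0 1 := by
    show IsConj _ _
    rw [pow_zero, one_mul, pow_one]
    have h4 : C 4 0 := hmod 4 0 (3 ^ 2 * 1) (2 ^ 2 * 0) rfl rfl (sbl 2 1 0 b10)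
    have h4' : IsConj (S.x hK) (S.x hK ^ 4) := by simpa only [C, pow_zero, mul_one] using h4
    exact h4'.trans (hs cy).symm
  have cover : ∀ p q : Fin 5, ¬((p : ℕ) = 0 ∧ (q : ℕ) = 0) → ∃ k l : Fin 4,
      ((p : ℕ) = 3 ^ (l : ℕ) % 5 ∧ (q : ℕ) = 2 ^ ((k : ℕ) + (l : ℕ)) % 5) ∨
      ((p : ℕ) = 3 ^ (l : ℕ) % 5 ∧ (q : ℕ) = 0) ∨ ((p : ℕ) = 0 ∧ (q : ℕ) = 2 ^ (k : ℕ) % 5) := by decide
  obtain ⟨k, l, ⟨e1, e2⟩ | ⟨e1, e2⟩ | ⟨e1, e2⟩⟩ :=
    cover ⟨i % 5, Nat.mod_lt _ (by norm_num)⟩ ⟨j % 5, Nat.mod_lt _ (by norm_num)⟩ h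
  · refine hmod i j _ _ (by simpa using e1) ?_ (sak k _ _ (sbl l 1 1 b11))
    simpa [pow_add] using e2
  · exact hmod i j _ _ (by simpa using e1) (by simpa using e2) (sbl l 1 0 b10)
  · exact hmod i j _ _ (by simpa using e1) (by simpa using e2) (sak k _ _ b01)

theorem card_E (hK : Fintype.card K = 4) : ¬125 ∣ Nat.card (Four.E K) := by
  have h := TwGroups.card_twE6 (q := 2) Nat.prime_two.isPrimePow (show Fintype.card K = 2 ^ 2 from hK)
  have h' : Nat.card (Four.E K) = 2 ^ 36 * 33 * 63 * 255 * 513 * 4095 := by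
    rw [show Nat.gcd 3 (2 + 1) = 3 from rfl,
      show (2 : ℕ) ^ 36 * (2 ^ 2 - 1) * (2 ^ 5 + 1) * (2 ^ 6 - 1) * (2 ^ 8 - 1) * (2 ^ 9 + 1) * (2 ^ 12 - 1) =
        3 * (2 ^ 36 * 33 * 63 * 255 * 513 * 4095) by norm_num] at h
    exact Nat.eq_of_mul_eq_mul_left (by norm_num) h
  rw [h']
  norm_num

/-- The elements of order five form one class. -/
theorem conj_five {z : Four.E K} (hz : orderOf z = 5) : IsConj (S.x hK) z := by
  classical
  haveI : Fact (Nat.Prime 5) := ⟨by norm_num⟩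
  obtain ⟨h5, h1, hc, -⟩ := y_facts (S := S) (hK := hK)
  have hcomm : ∀ (u : ↥(Subgroup.zpowers (S.x hK))) (v : ↥(Subgroup.zpowers (S.y hK))),
      Commute ((Subgroup.zpowers (S.x hK)).subtype u) ((Subgroup.zpowers (S.y hK)).subtype v) := by
    rintro ⟨u, m, rfl⟩ ⟨v, n, rfl⟩
    exact (hc.zpow_left m).zpow_right n
  set φ := MonoidHom.noncommCoprod (Subgroup.zpowers (S.x hK)).subtype (Subgroup.zpowers (S.y hK)).subtype hcomm
    with hφdef
  have hpow : ∀ {g u : Four.E K}, u ∈ Subgroup.zpowers g → ∃ n : ℕ, g ^ n = u := fun {g u} hu =>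
    (Submonoid.mem_powers_iff _ _).1 ((isOfFinOrder_of_finite g).mem_powers_iff_mem_zpowers.2 hu)
  have hinj : Function.Injective φ := by
    rw [← MonoidHom.ker_eq_bot_iff, Subgroup.eq_bot_iff_forall]
    rintro ⟨⟨u, hu⟩, ⟨v, hv⟩⟩ hker
    obtain ⟨i, rfl⟩ := hpow hu
    obtain ⟨j, rfl⟩ := hpow hv
    have he : S.x hK ^ i * S.y hK ^ j = 1 := hker
    obtain ⟨hi, hj⟩ := xy_eq_one he
    refine Prod.ext (Subtype.ext ?_) (Subtype.ext ?_)
    · show S.x hK ^ i = 1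
      rw [pow_eq_pow_mod i x_pow_five, hi, pow_zero]
    · show S.y hK ^ j = 1
      rw [pow_eq_pow_mod j h5, hj, pow_zero]
  have hcard : Nat.card ↥φ.range = 5 ^ 2 := by
    rw [← Nat.card_congr (MonoidHom.ofInjective hinj).toEquiv, Nat.card_prod, Nat.card_zpowers, Nat.card_zpowers,
      x_order, orderOf_eq_prime h5 h1]
    norm_num
  obtain ⟨Q₀, hQ₀⟩ := (IsPGroup.of_card hcard).exists_le_sylow
  have hQ : φ.range = (Q₀ : Subgroup (Four.E K)) := by
    refine Subgroup.eq_of_le_of_card_ge hQ₀ ?_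
    obtain ⟨n, hn⟩ := IsPGroup.iff_card.1 Q₀.isPGroup'
    rw [hn, hcard]
    refine Nat.pow_le_pow_right (by norm_num) ?_
    by_contra h3
    exact card_E hK ((pow_dvd_pow 5 (show 3 ≤ n by omega)).trans
      (hn ▸ Subgroup.card_subgroup_dvd_card _))
  obtain ⟨Q, hQz⟩ := (IsPGroup.of_card (p := 5) (n := 1) (by rw [Nat.card_zpowers, hz, pow_one]) :
    IsPGroup 5 ↥(Subgroup.zpowers z)).exists_le_sylow
  obtain ⟨g, hg⟩ := MulAction.exists_smul_eq (Four.E K) Q Q₀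
  have hmem : g * z * g⁻¹ ∈ φ.range := by
    rw [hQ, ← hg, Sylow.coe_subgroup_smul]
    exact Subgroup.smul_mem_pointwise_smul z (MulAut.conj g) _ (hQz (Subgroup.mem_zpowers z))
  obtain ⟨⟨⟨u, hu⟩, ⟨v, hv⟩⟩, he⟩ := hmem
  obtain ⟨i, rfl⟩ := hpow hu
  obtain ⟨j, rfl⟩ := hpow hv
  have he' : S.x hK ^ i * S.y hK ^ j = g * z * g⁻¹ := he
  have hne : ¬(i % 5 = 0 ∧ j % 5 = 0) := fun hij => by
    rw [pow_eq_pow_mod i x_pow_five, pow_eq_pow_mod j h5, hij.1, hij.2, pow_zero, pow_zero, one_mul] at he'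
    have : z = 1 := by
      have := conj_eq_one_iff.1 he'.symm
      exact this
    rw [this, orderOf_one] at hz
    norm_num at hz
  exact (conj_x hne).trans (isConj_iff.2 ⟨g⁻¹, by rw [he']; group⟩)

end CfsgLib.Lie.E6Two
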