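import Cfsg.Agent.Lib.Lie.Twisted.E6Two.Rigid
import Cfsg.Agent.Lib.Lie.Twisted.E6Two.CheckMono
import Cfsg.Agent.Lib.Lie.Twisted.E6
import Cfsg.Agent.Lib.Lie.Rel.Torus

set_option autoImplicit false
set_option maxRecDepth 20000

/-!
The only monomial map of the two kinds in the twisted group is the identity (owner: helper19).
-/

namespace CfsgLib.Lie.E6Two

open Data Cfsg.Lie CfsgLib.Lie.Chev
open scoped Matrix

theorem mono_apply {K : Type*} [Field K] (S : Four K) (j k : ℕ) (a b : chevE6.Idx) :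
    S.mono j k a b =
      if cond (Nat.beq j 0) (code chevE6 b) (graphPerm.getD (code chevE6 b) 0) = code chevE6 a then
        S.bd (bpow (false, true) (k * diagExp.getD (code chevE6 b) 0)) else 0 := by
  simp only [Four.mono, monoEntries, matOf, Matrix.of_apply, List.map_map, Function.comp_def, Int.cast_one, one_mul]
  rw [CfsgLib.Lie.Chev.list_range_sum_single (code_lt78 b) _ fun c _ hc => if_neg fun h => hc h.2]
  simp only [and_true, S.bd_pow]

/-- A matrix not lowering heights. -/
def UpH {K : Type*} [Field K] (M : Matrix chevE6.Idx chevE6.Idx K) : Prop :=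
  ∀ a b, M a b ≠ 0 → hN (code chevE6 b) ≤ hN (code chevE6 a)

theorem upH_one {K : Type*} [Field K] : UpH (1 : Matrix chevE6.Idx chevE6.Idx K) := fun a b h => by
  by_cases e : a = b
  · rw [e]
  · exact absurd (Matrix.one_apply_ne e) h

theorem UpH.mul {K : Type*} [Field K] {M N : Matrix chevE6.Idx chevE6.Idx K} (hM : UpH M) (hN' : UpH N) :
    UpH (M * N) := fun a b h => by
  rw [Matrix.mul_apply] at h
  obtain ⟨c, -, hc⟩ := Finset.exists_ne_zero_of_sum_ne_zero h
  exact (hN' c b (right_ne_zero_of_mul hc)).trans (hM a c (left_ne_zero_of_mul hc))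

theorem upH_x {K : Type*} [Field K] {r : ℕ} (hr : r < 72) (hp : 36 ≤ r) (t : K) : UpH (chevE6.x K r t) := by
  intro a b h
  rw [xMat_eq chevE6 (show r < chevE6.nroots from hr) (certE6.neg_ne hr) (certE6.key_ne hr), Matrix.add_apply] at h
  by_cases e : a = b
  · rw [e]
  rw [Matrix.one_apply_ne e, zero_add] at h
  have hu := up_checked
  simp only [upOK, List.all_eq_true, List.mem_range'_1] at hu
  by_contra hlt
  refine h (list_sum_eq_zero fun f hf => ?_)
  rw [if_neg]
  rintro ⟨h1, h2⟩
  have := Nat.le_of_ble_eq_true (hu r ⟨hp, by omega⟩ f hf)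
  rw [h1, h2] at this
  exact hlt this

theorem upH_mono {K : Type*} [Field K] (S : Four K) (j k : ℕ) : UpH (S.mono j k) := by
  intro a b h
  rw [mono_apply] at h
  split at h
  · next e =>
    have hl := level_checked
    simp only [levelOK, List.all_eq_true, List.mem_range] at hl
    rw [← e]
    cases Nat.beq j 0
    · rw [cond_false, beq_eq (hl _ (code_lt78 b))]
    · rfl
  · exact absurd rfl h

theorem inv_eq_pow {G : Type*} [Group G] [Finite G] (g : G) : ∃ n : ℕ, g⁻¹ = g ^ n := by
  refine ⟨orderOf g - 1, ?_⟩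
  rw [inv_eq_iff_mul_eq_one, ← pow_succ', Nat.sub_add_cancel (orderOf_pos g)]
  exact pow_orderOf_eq_one g

variable {K : Type*} [Field K] [Fintype K]

local notation "R" => chevRel certE6 K

variable (K) in
/-- The elements not lowering heights. -/
def upGroup : Subgroup ↥(chevE6.group K) where
  carrier := {g | UpH ((R).mat g)}
  one_mem' := by
    show UpH ((R).mat 1)
    rw [(R).mat_one]; exact upH_one
  mul_mem' {g h} hg hh := by
    show UpH ((R).mat (g * h))
    rw [(R).mat_mul]; exact UpH.mul hg hh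
  inv_mem' {g} hg := by
    show UpH ((R).mat g⁻¹)
    obtain ⟨n, e⟩ := inv_eq_pow g
    rw [e]
    clear e
    induction n with
    | zero => rw [pow_zero, (R).mat_one]; exact upH_one
    | succ n ih => rw [pow_succ, (R).mat_mul]; exact UpH.mul ih hg

theorem BS_le_upGroup : (R).BS ≤ upGroup K := by
  refine sup_le ((R).US_le fun r hr t => ?_) fun h hh => ?_
  · show UpH ((R).mat _)
    rw [(R).mat_xe]
    exact upH_x r.2 (show half chevE6 ≤ (r : ℕ) from hr) t
  · obtain ⟨c, e⟩ := (R).torusHom_surjective ⟨h, hh⟩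
    show UpH ((R).mat h)
    rw [show h = (((R).torusHom c : ↥(R).HS) : ↥(chevE6.group K)) from (congrArg Subtype.val e).symm, torusHom_mat]
    intro a b hab
    by_cases e' : a = b
    · rw [e']
    · exact absurd (Matrix.diagonal_apply_ne _ e') hab

theorem mem_BS_of_upH {g : ↥(chevE6.group K)} (hg : g ∈ upGroup K) (S : Four K) : g ∈ (R).BS := by
  obtain ⟨b, hb, n, u, hu, rfl⟩ := (R).exists_bnu g
  have hu' : u ∈ upGroup K := BS_le_upGroup ((R).UP_le_BS ((R).US_mono (Rel.invSet_subset _) hu))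
  have hn : ((n : ↥(chevE6.group K))) ∈ upGroup K := by
    have : (n : ↥(chevE6.group K)) = b⁻¹ * (b * n * u) * u⁻¹ := by group
    rw [this]
    exact mul_mem (mul_mem (inv_mem (BS_le_upGroup hb)) hg) (inv_mem hu')
  have hH : (n : ↥(chevE6.group K)) ∈ (R).HS := by
    refine (R).nsPerm_eq_one_of_pos n fun i => ?_
    by_contra hneg
    obtain ⟨a, ha⟩ := (R).isMon_nsPerm n
    obtain ⟨ha0, -, -, hx⟩ := ha ((R).sroot i)
    have hm : (R).xe ((R).nsPerm n ((R).sroot i) : ℕ) (a ((R).sroot i) * 1) ∈ upGroup K := by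
      rw [← hx 1]
      exact mul_mem (mul_mem hn (BS_le_upGroup ((R).xe_pos_mem_BS ((R).sroot_pos i) 1))) (inv_mem hn)
    set s := (R).nsPerm n ((R).sroot i) with hs
    have hm' : UpH ((R).mat ((R).xe (s : ℕ) (a ((R).sroot i) * 1))) := hm
    rw [(R).mat_xe, mul_one] at hm'
    have hd := down_checked
    simp only [downOK, List.all_eq_true, List.mem_range, List.any_eq_true, Bool.and_eq_true, decide_eq_true_eq] at hd
    obtain ⟨l, hl, hodd, hlt⟩ := hd s (not_le.1 hneg)
    refine not_le.2 (blt_lt hlt) ?_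
    have := hm' (Sum.inr s) (Sum.inl ⟨l, hl⟩) (by
      rw [certE6.xM_inr_inl s.2, if_pos rfl, S.cast_parity, if_neg hodd]
      simpa using ha0)
    rw [code_inr, code_inl] at this
    exact this
  exact mul_mem (mul_mem hb ((R).HS_le_BS hH)) ((R).UP_le_BS ((R).US_mono (Rel.invSet_subset _) hu))

theorem mono_facts : graphPerm.getD 62 0 = 42 ∧ (6 + 56 = 62 ∧ 6 + 42 = 48 ∧ 6 + 37 = 43 ∧ 6 + 36 = 42) ∧
    (diagExp.getD 62 0 = 1 ∧ diagExp.getD 48 0 = 0 ∧ diagExp.getD 43 0 = 0 ∧ diagExp.getD 42 0 = 2) ∧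
    (chevE6.nroots = 72 ∧ ∀ i : Fin chevE6.rank,
      (chevE6.cartan i 56 - chevE6.cartan i 42 + chevE6.cartan i 37 - chevE6.cartan i 36) % 3 = 0) := by
  decide +kernel

theorem rk_graph : ∀ a b : Fin chevE6.nroots, (a : ℕ) = 36 → (b : ℕ) = 56 →
    Rel.rk (Sum.inr a : chevE6.Idx) ≤ Rel.rk (Sum.inr b : chevE6.Idx) := by
  decide +kernel

theorem no_mono {S : Four K} (hK : Fintype.card K = 4) {g : Four.E K} {j k : ℕ} (hj : j < 2) (hk : k < 3)
    (h : Four.mt g = S.mono j k) : j = 0 ∧ k = 0 := by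
  have hle : twistedE6 K 2 ≤ chevE6.group K := genSubgroup_le certE6 _
  set g' : ↥(chevE6.group K) := ⟨(g : GL chevE6.Idx K), hle g.2⟩ with hg'
  have hmat : (R).mat g' = S.mono j k := h
  have hB : g' ∈ (R).BS := mem_BS_of_upH (show UpH ((R).mat g') by rw [hmat]; exact upH_mono S j k) S
  obtain ⟨hgp, ⟨-, -, -, -⟩, ⟨e62, e48, e43, e42⟩, hn72, hcart⟩ := mono_facts
  obtain rfl : j = 0 := by
    by_contra hj0
    have hj1 : j = 1 := by omega
    subst hj1
    have ht := (R).isTri_mat_BS hB (Sum.inr ⟨36, by omega⟩) (Sum.inr ⟨56, by omega⟩)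
      (fun e => by simp at e) (rk_graph _ _ rfl rfl)
    rw [hmat, mono_apply] at ht
    simp only [code_inr, show chevE6.rank = 6 from rfl, show Nat.beq 1 0 = false from rfl, cond_false, e62, hgp,
      Nat.reduceAdd, if_true] at ht
    exact absurd (S.bd_eq_zero ht) (by interval_cases k <;> decide)
  refine ⟨rfl, ?_⟩
  obtain ⟨u, hu, t, ht, e⟩ := (R).exists_of_mem_BS hB
  obtain ⟨c, hc⟩ := (R).torusHom_surjective ⟨t, ht⟩
  have hc' : t = (((R).torusHom c : ↥(R).HS) : ↥(chevE6.group K)) := (congrArg Subtype.val hc).symm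
  have hu1 : u = 1 := by
    refine (R).eq_one_of_UP hu fun a b hab => ?_
    have hu' : u = g' * t⁻¹ := by rw [e, mul_inv_cancel_right]
    rw [hu', hc', ← InvMemClass.coe_inv, ← map_inv, (R).mat_mul, torusHom_mat, Matrix.mul_diagonal, hmat,
      mono_apply, if_neg (fun e' => hab (code_injective chevE6 (by simpa using e'.symm))), zero_mul]
  rw [hu1, one_mul] at e
  have key : ∀ s : Fin chevE6.nroots, S.bd (bpow (false, true) (k * diagExp.getD (6 + (s : ℕ)) 0)) =
      ((∏ i : Fin chevE6.rank, c i ^ chevE6.cartan i s : Kˣ) : K) := fun s => by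
    have := congrFun (congrFun hmat (Sum.inr s)) (Sum.inr s)
    rw [e, hc', torusHom_mat, Matrix.diagonal_apply_eq, Sum.elim_inr, mono_apply] at this
    simp only [show Nat.beq 0 0 = true from rfl, cond_true, if_true, code_inr] at this
    exact this.symm
  classical
  have hcube : ∀ x : Kˣ, x ^ (3 : ℤ) = 1 := fun x => by
    have := pow_card_eq_one (x := x)
    rw [Fintype.card_units, hK] at this
    exact_mod_cast this
  have hprod : (∏ i : Fin chevE6.rank, c i ^ chevE6.cartan i 56) * (∏ i : Fin chevE6.rank, c i ^ chevE6.cartan i 42)⁻¹ *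
      (∏ i : Fin chevE6.rank, c i ^ chevE6.cartan i 37) * (∏ i : Fin chevE6.rank, c i ^ chevE6.cartan i 36)⁻¹ = 1 := by
    rw [← Finset.prod_inv_distrib, ← Finset.prod_inv_distrib, ← Finset.prod_mul_distrib, ← Finset.prod_mul_distrib,
      ← Finset.prod_mul_distrib]
    refine Finset.prod_eq_one fun i _ => ?_
    rw [← zpow_neg, ← zpow_neg, ← zpow_add, ← zpow_add, ← zpow_add, ← sub_eq_add_neg, ← sub_eq_add_neg]
    obtain ⟨m, hm⟩ := Int.dvd_of_emod_eq_zero (hcart i)
    rw [hm, zpow_mul, hcube, one_zpow]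
  have h56 := key ⟨56, by omega⟩
  have h42 := key ⟨42, by omega⟩
  have h37 := key ⟨37, by omega⟩
  have h36 := key ⟨36, by omega⟩
  simp only [Nat.reduceAdd, e62, e48, e43, e42, mul_zero, mul_one] at h56 h42 h37 h36
  rw [show bpow (false, true) 0 = (true, false) from rfl, S.bd_one] at h42 h37
  have hval := congrArg (fun x : Kˣ => (x : K)) hprod
  simp only [Units.val_mul, Units.val_inv_eq_inv_val, Units.val_one, ← h56, ← h42, ← h37, ← h36, inv_one,
    mul_one] at hval
  rw [mul_inv_eq_one₀ (fun e0 => absurd (S.bd_eq_zero e0) (by interval_cases k <;> decide))] at hval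
  have := S.bd_inj hval
  interval_cases k
  · rfl
  · exact absurd this (by decide)
  · exact absurd this (by decide)

end CfsgLib.Lie.E6Two
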