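import Cfsg.Agent.Lib.Lie.Twisted.E6Two.Frame
import Cfsg.Agent.Lib.Lie.Twisted.E6Two.CheckRigid

set_option autoImplicit false
set_option maxRecDepth 20000

/-!
An element fixing the six root vectors that maps the element of order five to itself or to its swapped image is,
up to a power, a monomial map (owner: helper19).
-/

namespace CfsgLib.Lie.E6Two

open Data Cfsg.Lie CfsgLib.Lie.Chev
open scoped Matrix

theorem e60_lt : e60 < 2 ^ 78 := by decide +kernel

theorem v1_lt : v1 < 2 ^ 78 := by decide +kernel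

theorem e60_ne : e60 ≠ 0 ∧ v1 ≠ 0 := by decide +kernel

theorem six_lt : ∀ i, six.getD i 0 < 2 ^ 78 := by
  intro i
  rcases lt_or_ge i six.length with h | h
  · exact inR_lt (six_inR (by rwa [show six.length = 6 from rfl] at h))
  · rw [List.getD_eq_default _ _ h]; norm_num

theorem corr_add {F : ℕ → ℕ → ℕ} (hF : ∀ n, IsAdd (F n)) : ∀ (Qs : List (List ℕ)) (n : ℕ), IsAdd (corr F n Qs)
  | [], _ => fun _ _ => (Nat.xor_self 0).symm
  | Q :: Qs, n => by
    show IsAdd fun v => lin Q (F n v) ^^^ corr F (n + 1) Qs v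
    exact IsAdd.xor ((isAdd_lin Q).comp (hF n)) (corr_add hF Qs (n + 1))

theorem corr_zero {F : ℕ → ℕ → ℕ} {v : ℕ} :
    ∀ (Qs : List (List ℕ)) (n : ℕ), (∀ m, n ≤ m → m < n + Qs.length → F m v = 0) → corr F n Qs v = 0
  | [], _, _ => rfl
  | Q :: Qs, n, h => by
    rw [corr, h n le_rfl (by simp), lin_zero, Nat.zero_xor,
      corr_zero Qs (n + 1) fun m h1 h2 => h m (by omega) (by simp only [List.length_cons]; omega)]

theorem cond_add (b : Bool) : IsAdd fun v => cond b v 0 := fun u v => by cases b <;> simp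

theorem cond_xor (b : Bool) (u v : ℕ) : cond b (u ^^^ v) 0 = cond b u 0 ^^^ cond b v 0 := cond_add b u v

theorem F60_add (n : ℕ) : IsAdd (F60 n) := fun u v => by
  simp only [F60, cond60]
  cases Nat.beq (W60cond.getD n (0, 0, 0)).1 0
  · simp only [cond_false, br, bil_xor_right]
    rw [cond_xor]
    ac_rfl
  · simp only [cond_true, br, bil_xor_right]

theorem F1_add (j n : ℕ) : IsAdd (F1 j n) := fun u v => by
  simp only [F1, br, bil_xor_right]
  rw [cond_xor]
  ac_rfl

theorem monoEntries_col (j k : ℕ) : ∀ e ∈ monoEntries j k, e.2.2.1 < 78 := by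
  intro e he
  obtain ⟨c, hc, rfl⟩ := List.mem_map.1 he
  exact List.mem_range.1 hc

/-- A monomial matrix. -/
noncomputable def Four.mono {K : Type*} [Field K] (S : Four K) (j k : ℕ) :
    Matrix chevE6.Idx chevE6.Idx K := matOf chevE6 (monoEntries j k) (S.bd (false, true))

variable {K : Type*} [Field K] [Fintype K] {S : Four K} {hK : Fintype.card K = 4}

/-- The element of order five or its image under the swap. -/
noncomputable def Four.xE (S : Four K) (hK : Fintype.card K = 4) (j : ℕ) : Four.E K :=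
  cond (Nat.beq j 0) (S.x hK) (S.xg hK)

theorem act_xE (j : ℕ) {m : ℕ} (hm : m < 2 ^ 78) : S.act hK (S.xE hK j) m = lin (xJ j) m := by
  cases h : Nat.beq j 0
  · simp only [Four.xE, xJ, h, cond_false]
    exact act_el ids_swap.2 hm
  · simp only [Four.xE, xJ, h, cond_true]
    exact act_x hm

theorem act_pow {g : Four.E K} {L : List ℕ} (h : ∀ m < 2 ^ 78, S.act hK g m = lin L m) {v : ℕ} (hv : v < 2 ^ 78) :
    ∀ n : ℕ, S.act hK (g ^ n) v = iterLin L n v
  | 0 => by rw [pow_zero, act_one hv]; rfl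
  | n + 1 => by
    rw [pow_succ', act_mul _ _ hv, h _ (act_lt hv), act_pow h hv n]
    rfl

theorem xE_six (j : ℕ) {i : ℕ} (hi : i < 6) : S.act hK (S.xE hK j) (six.getD i 0) = six.getD i 0 := by
  have h := root60_checked
  simp only [root60OK, Bool.and_eq_true, List.all_eq_true, List.mem_range] at h
  obtain ⟨a, b⟩ := h.2 i hi
  rw [act_xE j (six_lt i), xJ]
  cases Nat.beq j 0
  · exact beq_eq b
  · exact beq_eq a

theorem word_lift : ∀ w : List ℕ, (∀ g ∈ w, g < 16) →
    ∃ a : Four.E K, ∀ m < 2 ^ 78, S.act hK a m = w.foldr (fun g v => lin (tb g) v) m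
  | [], _ => ⟨1, fun m hm => act_one hm⟩
  | g :: w, h => by
    obtain ⟨a, e⟩ := word_lift w fun k hk => h k (List.mem_cons_of_mem _ hk)
    refine ⟨S.el hK g * a, fun m hm => ?_⟩
    rw [act_mul _ _ hm, act_el (by have := h g List.mem_cons_self; omega) (act_lt hm), e m hm]
    rfl

theorem root60 : ∃ a : Four.E K, S.act hK a eA = e60 := by
  have h := root60_checked
  simp only [root60OK, Bool.and_eq_true, List.all_eq_true] at h
  obtain ⟨a, e⟩ := word_lift (S := S) (hK := hK) w60 fun g hg => blt_lt (h.1.1 g hg)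
  exact ⟨a, by rw [e _ eA_lt]; exact beq_eq h.1.2⟩

theorem orb60_cases {v : ℕ} (hv : v < 2 ^ 78) (hF : ∀ n < W60cond.length, F60 n v = 0) :
    v = 0 ∨ (∃ q < 5, v = iterLin xT q e60 ∧ v = iterLin (tb iXg) (xgFor.getD q 0) e60) ∨
      ∃ n < 11, v = (rk.getD n (0, [], [])).1 := by
  have h := orb60_checked
  simp only [orb60OK, Bool.and_eq_true, List.all_eq_true, List.mem_range, Bool.or_eq_true] at h
  obtain ⟨⟨hl, -⟩, hd, ⟨-, hco⟩, hc⟩ := h
  have e : lin W60 (lin W60co v) ^^^ corr F60 0 W60Q v = v := by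
    refine IsAdd.ext (f := fun v => lin W60 (lin W60co v) ^^^ corr F60 0 W60Q v) (g := fun v => v)
      (IsAdd.xor ((isAdd_lin _).comp (isAdd_lin _)) (corr_add F60_add W60Q 0)) isAdd_id (fun i hi => ?_) hv
    show lin W60 (lin W60co (2 ^ i)) ^^^ _ = 2 ^ i
    rw [lin_single _ (by omega)]
    exact beq_eq (hd i hi)
  rw [corr_zero W60Q 0 (fun m _ hm => hF m (by rw [beq_eq hl] at hm; omega)), Nat.xor_zero] at e
  rcases hc (lin W60co v) (lin_lt hco v) with ⟨-, h'⟩ | ⟨-, h1, h2, h3⟩ | ⟨-, h1, h2⟩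
  · exact Or.inl (e.symm.trans (beq_eq h'))
  · exact Or.inr (Or.inl ⟨_, blt_lt h1, e.symm.trans (beq_eq h2), e.symm.trans (beq_eq h3)⟩)
  · exact Or.inr (Or.inr ⟨_, blt_lt h1, e.symm.trans (beq_eq h2)⟩)

theorem F60_e60 {n : ℕ} (hn : n < W60cond.length) : F60 n e60 = 0 := by
  have h := orb60_checked
  simp only [orb60OK, Bool.and_eq_true, List.all_eq_true, List.mem_range] at h
  exact beq_eq (h.1.2 n hn)

theorem rigid_checked {j : ℕ} (hj : j < 2) : rigidOK j = true := by
  interval_cases j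
  exacts [rigid_0, rigid_1]

theorem vals_facts : (allLt 78 vals = true ∧ allLt 78 valsinv = true) ∧
    (∀ i < 78, (deriv xT (base8 v1) seq []).getD i 0 = vals.getD i 0 ∧ lin vals (valsinv.getD i 0) = 2 ^ i) ∧
    (∀ i < 45, (deriv xT (base8 0) (seq.take 45) []).getD i 0 = vals.getD i 0) ∧
    ∀ n < W1cond.length, (W1cond.getD n (0, 0)).1 < 45 ∧
      br (vals.getD (W1cond.getD n (0, 0)).1 0) v1 ^^^ cond (Nat.beq (W1cond.getD n (0, 0)).2 1) v1 0 = 0 := by
  have hv := vals_checked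
  simp only [valsOK, Bool.and_eq_true, List.all_eq_true, List.mem_range] at hv
  obtain ⟨hfull, hpre, ⟨⟨hvl, hvil⟩, hinv⟩, hW⟩ := hv
  exact ⟨⟨hvl, hvil⟩, fun i hi => ⟨beq_eq (hfull i hi), beq_eq (hinv i hi)⟩, fun i hi => beq_eq (hpre i hi),
    fun n hn => ⟨blt_lt (hW n hn).1, beq_eq (hW n hn).2⟩⟩

section

attribute [local irreducible] monoP deriv lin bil xsum monoEntries corr iterLin

set_option maxHeartbeats 200000 in
theorem rigid_facts {j : ℕ} (hj : j < 2) :
    (∀ i < 45, (deriv (xJ j) (base8 0) (seq.take 45) []).getD i 0 = (imJ j).getD i 0) ∧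
    ((w1Q j).length = W1cond.length ∧ allLt 2 (w1co j) = true) ∧
    (∀ i < 78, lin W1 ((w1co j).getD i 0) ^^^ corr (F1 j) 0 (w1Q j) (2 ^ i) = 2 ^ i) ∧
    ∀ c, 1 ≤ c → c < 4 → (w1case j).getD (c - 1) 0 < 3 ∧ ∀ i < 78,
      monoP j ((w1case j).getD (c - 1) 0) (pl (vals.getD i 0)) =
        pl ((deriv (xJ j) (base8 (lin W1 c)) seq []).getD i 0) := by
  have hr := rigid_checked hj
  simp only [rigidOK, Bool.and_eq_true, List.all_eq_true, List.mem_range, List.mem_range'_1] at hr
  obtain ⟨him, ⟨hQl, hco, -⟩, hd, hcase⟩ := hr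
  refine ⟨fun i hi => beq_eq (him i hi), ⟨beq_eq hQl, hco⟩, fun i hi => beq_eq (hd i hi), fun c h1 h2 => ?_⟩
  obtain ⟨hk, hc⟩ := hcase c ⟨h1, h2⟩
  refine ⟨blt_lt hk, fun i hi => ?_⟩
  simp only [pl]
  exact Prod.ext (beq_eq (hc i hi).1) (beq_eq (hc i hi).2)

end

theorem fix_e60 {h : Four.E K} {j : ℕ} (hsix : ∀ i < 6, S.act hK h (six.getD i 0) = six.getD i 0) :
    ∃ q : ℕ, S.act hK ((S.xE hK j ^ q)⁻¹ * h) e60 = e60 := by
  have hs : ∀ i, S.act hK h (six.getD i 0) = six.getD i 0 := fun i => by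
    rcases lt_or_ge i six.length with hi | hi
    · exact hsix i (by rwa [show six.length = 6 from rfl] at hi)
    · rw [List.getD_eq_default _ _ hi, act_zero]
  have hF : ∀ n < W60cond.length, F60 n (S.act hK h e60) = 0 := fun n hn => by
    rw [← act_zero (S := S) (hK := hK) h, ← F60_e60 hn]
    simp only [F60, cond60]
    cases Nat.beq (W60cond.getD n (0, 0, 0)).1 0
    · simp only [cond_false]
      rw [act_xor h (br_lt _ _) (by cases Nat.beq (W60cond.getD n (0, 0, 0)).1 2; exacts [by norm_num, e60_lt]),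
        act_br (br_lt _ _) e60_lt, act_br (six_lt _) (six_lt _), hs, hs]
      cases Nat.beq (W60cond.getD n (0, 0, 0)).1 2
      · simp only [cond_false, act_zero]
      · rfl
    · simp only [cond_true]
      rw [act_br (six_lt _) e60_lt, hs]
  rcases orb60_cases (act_lt e60_lt) hF with h0 | ⟨q, -, hx, hg⟩ | ⟨n, hn, h0⟩
  · exact absurd (act_inj h e60_lt (by norm_num) (h0.trans (act_zero h).symm)) e60_ne.1
  · cases hj : Nat.beq j 0
    · refine ⟨xgFor.getD q 0, ?_⟩
      rw [act_mul _ _ e60_lt, hg,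
        ← act_pow (S := S) (hK := hK) (g := S.xg hK) (fun m hm => act_el ids_swap.2 hm) e60_lt, Four.xE, hj,
        cond_false, act_inv _ e60_lt]
    · refine ⟨q, ?_⟩
      rw [act_mul _ _ e60_lt, hx, ← act_pow (S := S) (hK := hK) (g := S.x hK) (fun m hm => act_x hm) e60_lt,
        Four.xE, hj, cond_true, act_inv _ e60_lt]
  · obtain ⟨a, ha⟩ := root60 (S := S) (hK := hK)
    exact absurd (by rw [act_mul _ _ eA_lt, ha, h0]) (rk_absurd (S := S) (hK := hK) (h * a) hn)

theorem getD_snoc (L : List ℕ) (a i : ℕ) :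
    (L ++ [a]).getD i 0 = if i < L.length then L.getD i 0 else if i = L.length then a else 0 := by
  rcases lt_trichotomy i L.length with h | rfl | h
  · rw [if_pos h, List.getD_append _ _ _ _ h]
  · rw [if_neg (lt_irrefl _), if_pos rfl, List.getD_append_right _ _ _ _ le_rfl, Nat.sub_self]
    rfl
  · rw [if_neg h.not_gt, if_neg h.ne', List.getD_append_right _ _ _ _ h.le]
    obtain ⟨d, hd⟩ := Nat.exists_eq_add_of_lt h
    rw [show i - L.length = d + 1 by omega]
    rfl

theorem deriv_act {h : Four.E K} {j : ℕ} (hc : h * S.x hK = S.xE hK j * h) {b b' : List ℕ}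
    (hb : ∀ i, b.getD i 0 < 2 ^ 78 ∧ S.act hK h (b.getD i 0) = b'.getD i 0) :
    ∀ (ops : List (ℕ × ℕ × ℕ)) (A A' : List ℕ), A.length = A'.length →
      (∀ i, A.getD i 0 < 2 ^ 78 ∧ S.act hK h (A.getD i 0) = A'.getD i 0) →
      ∀ i, (deriv xT b ops A).getD i 0 < 2 ^ 78 ∧
        S.act hK h ((deriv xT b ops A).getD i 0) = (deriv (xJ j) b' ops A').getD i 0
  | [], A, A', _, hA => hA
  | o :: ops, A, A', hlen, hA => by
    simp only [deriv]
    refine deriv_act hc hb ops _ _ (by simp [hlen]) fun i => ?_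
    have key : derivStep xT b A o < 2 ^ 78 ∧
        S.act hK h (derivStep xT b A o) = derivStep (xJ j) b' A' o := by
      simp only [derivStep]
      cases Nat.beq o.1 0
      · simp only [cond_false]
        cases Nat.beq o.1 1
        · simp only [cond_false]
          exact ⟨br_lt _ _, by rw [act_br (hA _).1 (hA _).1, (hA _).2, (hA _).2]⟩
        · simp only [cond_true]
          obtain ⟨hl, he⟩ := hA o.2.1
          rw [← act_x (S := S) (hK := hK) hl]
          refine ⟨act_lt hl, ?_⟩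
          rw [← act_mul _ _ hl, hc, act_mul _ _ hl, he, act_xE j (he ▸ act_lt hl)]
      · simp only [cond_true]
        exact hb _
    rw [getD_snoc, getD_snoc, ← hlen]
    split
    · exact hA i
    · split
      · exact key
      · exact ⟨by norm_num, act_zero h⟩

theorem base8_act {h : Four.E K} (hsix : ∀ i < 6, S.act hK h (six.getD i 0) = six.getD i 0)
    (he : S.act hK h e60 = e60) {v : ℕ} (hv : v < 2 ^ 78) (i : ℕ) :
    (base8 v).getD i 0 < 2 ^ 78 ∧
      S.act hK h ((base8 v).getD i 0) = (base8 (S.act hK h v)).getD i 0 := by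
  have hl : six.length = 6 := rfl
  rcases lt_or_ge i 6 with h6 | h6
  · simp only [base8, List.getD_append _ _ _ _ (hl.symm ▸ h6)]
    exact ⟨six_lt i, hsix i h6⟩
  · simp only [base8, List.getD_append_right _ _ _ _ (hl.symm ▸ h6), hl]
    rcases h7 : i - 6 with _ | _ | n
    · exact ⟨e60_lt, he⟩
    · exact ⟨hv, rfl⟩
    · exact ⟨by simp, by simp [act_zero]⟩

/-- The monomial form. -/
theorem rigid {h : Four.E K} {j : ℕ} (hj : j < 2) (hsix : ∀ i < 6, S.act hK h (six.getD i 0) = six.getD i 0)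
    (hc : h * S.x hK = S.xE hK j * h) :
    ∃ q k : ℕ, k < 3 ∧ Four.mt ((S.xE hK j ^ q)⁻¹ * h) = S.mono j k := by
  obtain ⟨q, hq⟩ := fix_e60 (j := j) hsix
  refine ⟨q, ?_⟩
  set g := (S.xE hK j ^ q)⁻¹ * h with hg
  have hgc : g * S.x hK = S.xE hK j * g := by
    rw [hg, mul_assoc, hc, ← mul_assoc, ← mul_assoc, ((Commute.refl (S.xE hK j)).pow_left q).inv_left.eq]
  have hg6 : ∀ i < 6, S.act hK g (six.getD i 0) = six.getD i 0 := fun i hi => by
    have hp : ∀ n : ℕ, S.act hK (S.xE hK j ^ n) (six.getD i 0) = six.getD i 0 := fun n => by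
      induction n with
      | zero => rw [pow_zero, act_one (six_lt i)]
      | succ n ih => rw [pow_succ', act_mul _ _ (six_lt i), ih, xE_six j hi]
    rw [hg, act_mul _ _ (six_lt i), hsix i hi]
    nth_rw 1 [← hp q]
    rw [act_inv _ (six_lt i)]
  obtain ⟨⟨hvl, hvil⟩, hfull, hpre, hW⟩ := vals_facts
  obtain ⟨him, ⟨hQl, hco⟩, hd, hcase⟩ := rigid_facts hj
  have hnil : ∀ i, ([] : List ℕ).getD i 0 < 2 ^ 78 ∧ S.act hK g (([] : List ℕ).getD i 0) = ([] : List ℕ).getD i 0 :=
    fun i => ⟨by simp, by simp [act_zero]⟩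
  have hlow : ∀ i < 45, S.act hK g (vals.getD i 0) = (imJ j).getD i 0 := fun i hi => by
    have := (deriv_act hgc (b := base8 0) (b' := base8 0) (fun k => by
      obtain ⟨a, b⟩ := base8_act hg6 hq (show 0 < 2 ^ 78 by norm_num) k
      exact ⟨a, by rw [b, act_zero]⟩) (seq.take 45) [] [] rfl hnil i).2
    rwa [hpre i hi, him i hi] at this
  set w := S.act hK g v1 with hw
  have hF : ∀ n < W1cond.length, F1 j n w = 0 := fun n hn => by
    obtain ⟨h1, h2⟩ := hW n hn
    have hlt : vals.getD (W1cond.getD n (0, 0)).1 0 < 2 ^ 78 := getD_lt hvl _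
    rw [← act_zero (S := S) (hK := hK) g, ← h2, act_xor g (br_lt _ _)
        (by cases Nat.beq (W1cond.getD n (0, 0)).2 1; exacts [by norm_num, v1_lt]),
      act_br hlt v1_lt, hlow _ h1, F1]
    cases Nat.beq (W1cond.getD n (0, 0)).2 1
    · simp only [cond_false, act_zero]; rfl
    · rfl
  have hdec : lin W1 (lin (w1co j) w) = w := by
    have e : lin W1 (lin (w1co j) w) ^^^ corr (F1 j) 0 (w1Q j) w = w := by
      refine IsAdd.ext (f := fun v => lin W1 (lin (w1co j) v) ^^^ corr (F1 j) 0 (w1Q j) v) (g := fun v => v)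
        (IsAdd.xor ((isAdd_lin _).comp (isAdd_lin _)) (corr_add (F1_add j) _ 0)) isAdd_id (fun i hi => ?_)
        (act_lt v1_lt)
      show lin W1 (lin (w1co j) (2 ^ i)) ^^^ _ = 2 ^ i
      rw [lin_single _ (by omega)]
      exact hd i hi
    rwa [corr_zero (w1Q j) 0 (fun m _ hm => hF m (by rw [hQl] at hm; omega)), Nat.xor_zero] at e
  have hc4 : lin (w1co j) w < 4 := lin_lt hco w
  have hc0 : lin (w1co j) w ≠ 0 := fun e => by
    rw [e, lin_zero] at hdec
    exact e60_ne.2 (act_inj g v1_lt (by norm_num) (hdec.symm.trans (act_zero g).symm))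
  obtain ⟨hk, hcols⟩ := hcase (lin (w1co j) w) (by omega) hc4
  rw [hdec] at hcols
  refine ⟨_, hk, S.mat_ext fun m hm => ?_⟩
  have hm' : lin vals (lin valsinv m) = m := IsAdd.ext ((isAdd_lin _).comp (isAdd_lin _)) isAdd_id (fun i hi => by
    show lin vals (lin valsinv (2 ^ i)) = 2 ^ i
    rw [lin_single _ (by omega)]
    exact (hfull i hi).2) hm
  rw [← hm']
  refine ext_add (op := fun a b : chevE6.Idx → K => a + b)
    (f := fun c => Four.mt g *ᵥ S.ι (lin vals c))
    (g := fun c => S.mono j ((w1case j).getD (lin (w1co j) w - 1) 0) *ᵥ S.ι (lin vals c))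
    (fun a b => by show _ *ᵥ S.ι (lin vals (a ^^^ b)) = _; rw [lin_xor, S.ι_add, Matrix.mulVec_add])
    (fun a b => by show _ *ᵥ S.ι (lin vals (a ^^^ b)) = _; rw [lin_xor, S.ι_add, Matrix.mulVec_add])
    (by show _ *ᵥ S.ι (lin vals 0) = _ *ᵥ S.ι (lin vals 0); rw [lin_zero, S.ι_zero, Matrix.mulVec_zero,
      Matrix.mulVec_zero]) 78 (fun i hi => ?_) _ (lin_lt hvil m)
  show Four.mt g *ᵥ S.ι (lin vals (2 ^ i)) = _ *ᵥ S.ι (lin vals (2 ^ i))
  rw [lin_single _ (by omega), act_spec (hK := hK) (getD_lt hvl i)]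
  have himg : S.act hK g (vals.getD i 0) = (deriv (xJ j) (base8 w) seq []).getD i 0 := by
    have := (deriv_act hgc (base8_act hg6 hq v1_lt) seq [] [] rfl hnil i).2
    rwa [(hfull i hi).1] at this
  rw [himg, Four.mono]
  show _ = matOf chevE6 _ _ *ᵥ S.vec (pl (vals.getD i 0))
  rw [S.matOf_mulVec _ _ _ (monoEntries_col _ _)]
  exact congrArg S.vec (hcols i hi).symm

end CfsgLib.Lie.E6Two
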