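import Cfsg.Agent.Lib.Lie.Twisted.E6Two.Act
import Cfsg.Agent.Lib.Lie.Twisted.E6Two.CheckScan

set_option autoImplicit false
set_option maxRecDepth 20000

/-!
The root vectors fixed by the element of order five form one orbit of the complement (owner: helper19).
-/

namespace CfsgLib.Lie.E6Two

open Data

theorem tabL_lt (a : ℕ → Bool) : ∀ n, tabL a n < 2 ^ 2 ^ n
  | 0 => by simp [tabL]
  | n + 1 => by
    have h := tabL_lt a n
    have h2 : tabL a n ^^^ cond (a n) (fullT n) 0 < 2 ^ 2 ^ n := by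
      refine Nat.xor_lt_two_pow h ?_
      cases a n
      · exact Nat.two_pow_pos _
      · exact Nat.sub_lt (Nat.two_pow_pos _) Nat.one_pos
    rw [tabL]
    refine Nat.or_lt_two_pow (h.trans_le (Nat.pow_le_pow_right (by norm_num) (by rw [pow_succ]; omega))) ?_
    rw [Nat.shiftLeft_eq, show (2 : ℕ) ^ 2 ^ (n + 1) = 2 ^ 2 ^ n * 2 ^ 2 ^ n by rw [← pow_add, pow_succ, mul_two]]
    exact Nat.mul_lt_mul_of_lt_of_le h2 le_rfl (Nat.two_pow_pos _)

theorem fullT_bit {n c : ℕ} (hc : c < 2 ^ n) : Nat.testBit (fullT n) c = true := by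
  rw [fullT, Nat.testBit_two_pow_sub_one]
  exact decide_eq_true hc

theorem cond_full_bit (b : Bool) {n c : ℕ} (hc : c < 2 ^ n) : Nat.testBit (cond b (fullT n) 0) c = b := by
  cases b
  · exact Nat.zero_testBit c
  · exact fullT_bit hc

theorem shl_low (T : ℕ) {n c : ℕ} (hc : c < n) : Nat.testBit (T <<< n) c = false := by
  simp [Nat.testBit_shiftLeft, not_le.2 hc]

theorem shl_high (T : ℕ) (n c : ℕ) : Nat.testBit (T <<< n) (n + c) = Nat.testBit T c := by
  simp [Nat.testBit_shiftLeft]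

theorem top_cases {n c : ℕ} (hc : c < 2 ^ (n + 1)) :
    c < 2 ^ n ∨ ∃ b < 2 ^ n, c = 2 ^ n + b ∧ c = b ^^^ 2 ^ n := by
  rcases lt_or_ge c (2 ^ n) with h | h
  · exact Or.inl h
  · obtain ⟨b, rfl⟩ := Nat.exists_eq_add_of_le h
    have hb : b < 2 ^ n := by rw [pow_succ] at hc; omega
    refine Or.inr ⟨b, hb, rfl, Nat.eq_of_testBit_eq fun i => ?_⟩
    rw [Nat.testBit_xor, Nat.testBit_two_pow, ← mul_one (2 ^ n), Nat.testBit_two_pow_mul_add 1 hb]
    rcases lt_trichotomy i n with hi | rfl | hi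
    · simp [hi, hi.ne']
    · simp [Nat.testBit_lt_two_pow hb]
    · rw [if_neg hi.not_gt, Nat.testBit_lt_two_pow (hb.trans_le (Nat.pow_le_pow_right (by norm_num) hi.le))]
      rw [Nat.testBit_eq_decide_div_mod_eq, Nat.div_eq_of_lt (Nat.one_lt_two_pow (by omega))]
      simp [hi.ne]

theorem tabL_bit {a : ℕ → Bool} {P : ℕ → Bool} (hP : ∀ u v, P (u ^^^ v) = Bool.xor (P u) (P v))
    (ha : ∀ i, P (2 ^ i) = a i) : ∀ n, ∀ c < 2 ^ n, Nat.testBit (tabL a n) c = P c := by
  have h0 : P 0 = false := by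
    have := hP 0 0
    rw [Nat.xor_self] at this
    revert this
    cases P 0 <;> simp
  intro n
  induction n with
  | zero =>
    intro c hc
    obtain rfl : c = 0 := by simpa using hc
    rw [tabL, Nat.zero_testBit, h0]
  | succ n ih =>
    intro c hc
    rw [tabL, Nat.testBit_or]
    rcases top_cases hc with h | ⟨b, hb, e, e'⟩
    · rw [shl_low _ h, Bool.or_false, ih c h]
    · rw [Nat.testBit_lt_two_pow ((tabL_lt a n).trans_le (Nat.pow_le_pow_right (by norm_num) (show 2 ^ n ≤ c by omega))),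
        Bool.false_or, e, shl_high, Nat.testBit_xor, ih b hb, cond_full_bit _ hb, ← ha, ← hP, ← e', e]

theorem tabQ_lt (B : ℕ → ℕ → Bool) : ∀ n, tabQ B n < 2 ^ 2 ^ n
  | 0 => by simp [tabQ]
  | n + 1 => by
    have h := tabQ_lt B n
    have h2 : (tabQ B n ^^^ tabL (fun i => Bool.xor (B (2 ^ i) (2 ^ n)) (B (2 ^ n) (2 ^ i))) n) ^^^
        cond (B (2 ^ n) (2 ^ n)) (fullT n) 0 < 2 ^ 2 ^ n := by
      refine Nat.xor_lt_two_pow (Nat.xor_lt_two_pow h (tabL_lt _ n)) ?_
      cases B (2 ^ n) (2 ^ n)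
      · exact Nat.two_pow_pos _
      · exact Nat.sub_lt (Nat.two_pow_pos _) Nat.one_pos
    rw [tabQ]
    refine Nat.or_lt_two_pow (h.trans_le (Nat.pow_le_pow_right (by norm_num) (by rw [pow_succ]; omega))) ?_
    rw [Nat.shiftLeft_eq, show (2 : ℕ) ^ 2 ^ (n + 1) = 2 ^ 2 ^ n * 2 ^ 2 ^ n by rw [← pow_add, pow_succ, mul_two]]
    exact Nat.mul_lt_mul_of_lt_of_le h2 le_rfl (Nat.two_pow_pos _)

theorem xor4 (a b c d : Bool) : Bool.xor (Bool.xor a b) (Bool.xor c d) = Bool.xor (Bool.xor a c) (Bool.xor b d) := by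
  cases a <;> cases b <;> cases c <;> cases d <;> rfl

theorem tabQ_bit {B : ℕ → ℕ → Bool} (hl : ∀ u v w, B (u ^^^ v) w = Bool.xor (B u w) (B v w))
    (hr : ∀ u v w, B w (u ^^^ v) = Bool.xor (B w u) (B w v)) :
    ∀ n, ∀ c < 2 ^ n, Nat.testBit (tabQ B n) c = B c c := by
  intro n
  induction n with
  | zero =>
    intro c hc
    obtain rfl : c = 0 := by simpa using hc
    have := hl 0 0 0
    rw [Nat.xor_self] at this
    rw [tabQ, Nat.zero_testBit]
    revert this
    cases B 0 0 <;> simp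
  | succ n ih =>
    intro c hc
    rw [tabQ, Nat.testBit_or]
    rcases top_cases hc with h | ⟨b, hb, e, e'⟩
    · rw [shl_low _ h, Bool.or_false, ih c h]
    · rw [Nat.testBit_lt_two_pow ((tabQ_lt B n).trans_le (Nat.pow_le_pow_right (by norm_num) (show 2 ^ n ≤ c by omega))),
        Bool.false_or, e, shl_high, Nat.testBit_xor, Nat.testBit_xor, ih b hb, cond_full_bit _ hb,
        tabL_bit (P := fun u => Bool.xor (B u (2 ^ n)) (B (2 ^ n) u))
          (fun u v => by
            show Bool.xor (B (u ^^^ v) _) (B _ (u ^^^ v)) = _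
            rw [hl, hr]
            exact xor4 _ _ _ _) (fun i => rfl) n b hb,
        ← e, e', hl, hr, hr]
      cases B b b <;> cases B b (2 ^ n) <;> cases B (2 ^ n) b <;> cases B (2 ^ n) (2 ^ n) <;> rfl

theorem formB_left (p : ℕ × ℕ) (u v w : ℕ) :
    formB p (u ^^^ v) w = Bool.xor (formB p u w) (formB p v w) := by
  simp only [formB, br, lin_xor, bil_xor_left, Nat.testBit_xor]

theorem formB_right (p : ℕ × ℕ) (u v w : ℕ) :
    formB p w (u ^^^ v) = Bool.xor (formB p w u) (formB p w v) := by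
  simp only [formB, br, lin_xor, bil_xor_left, bil_xor_right, Nat.testBit_xor]

theorem zeros_bit {c : ℕ} (hc : c < 2 ^ 18) :
    ∀ L, (∀ p ∈ L, formB p c c = false) → Nat.testBit (zeros L) c = true
  | [], _ => fullT_bit hc
  | p :: L, h => by
    rw [zeros, Nat.testBit_and, Nat.testBit_xor, fullT_bit hc, tabQ_bit (formB_left p) (formB_right p) 18 c hc,
      h p List.mem_cons_self, zeros_bit hc L fun q hq => h q (List.mem_cons_of_mem _ hq)]
    rfl

theorem setBits_bit {c : ℕ} : ∀ L : List ℕ, Nat.testBit (setBits L) c = true → c ∈ L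
  | [], h => by simp [setBits] at h
  | d :: L, h => by
    rw [setBits, Nat.testBit_or, Bool.or_eq_true, Nat.testBit_two_pow, decide_eq_true_eq] at h
    rcases h with h | h
    · exact h ▸ List.mem_cons_self
    · exact List.mem_cons_of_mem _ (setBits_bit L h)

theorem fix_facts : (allLt 78 FX = true ∧ allLt 18 FXco = true ∧ allLt 78 B22 = true ∧ allLt 22 C22 = true ∧
    allLt 78 R = true ∧ allLt 78 V = true) ∧ ((∀ p ∈ forms, p.1 < 78) ∧ ∀ f ∈ FX, lin xT f = f) ∧
    ∀ i < 78, lin FX (FXco.getD i 0) ^^^ lin FXQ (xT.getD i 0 ^^^ 2 ^ i) = 2 ^ i ∧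
      lin B22 (C22.getD i 0) = br eA (2 ^ i) ∧ br eA (br eA (2 ^ i)) = 0 := by
  have h := fix_checked
  simp only [fixOK, Bool.and_eq_true, List.all_eq_true, List.mem_range] at h
  obtain ⟨⟨a, b, c, d, e, f⟩, ⟨g, g'⟩, k⟩ := h
  refine ⟨⟨a, b, c, d, e, f⟩, ⟨fun p hp => blt_lt (g p hp), fun v hv => beq_eq (g' v hv)⟩, fun i hi => ?_⟩
  obtain ⟨k1, k2, k3⟩ := k i hi
  exact ⟨beq_eq k1, beq_eq k2, beq_eq k3⟩

theorem R_lt (i : ℕ) : R.getD i 0 < 2 ^ 78 := getD_lt fix_facts.1.2.2.2.2.1 i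

theorem V_lt (i : ℕ) : V.getD i 0 < 2 ^ 78 := getD_lt fix_facts.1.2.2.2.2.2 i

theorem eA_lt : eA < 2 ^ 78 := R_lt 0

variable {K : Type*} [Field K] [Fintype K] (S : Four K) (hK : Fintype.card K = 4)

/-- The element of order five. -/
noncomputable def Four.x : Four.E K := S.el hK (iX.getD 0 0)

/-- A generator of the complement. -/
noncomputable def Four.gA (g : ℕ) : Four.E K := S.el hK (iA.getD g 0)

/-- The complement. -/
noncomputable def Four.A : Subgroup (Four.E K) := Subgroup.closure {a | ∃ g < 6, a = S.gA hK g}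

variable {S hK}

theorem ids_lt : (∀ k < 4, iX.getD k 0 < 240 ∧ iY.getD k 0 < 240) ∧ ∀ g < 6, iA.getD g 0 < 240 := by
  decide +kernel

theorem act_x {m : ℕ} (hm : m < 2 ^ 78) : S.act hK (S.x hK) m = lin xT m := act_el (ids_lt.1 0 (by norm_num)).1 hm

theorem act_gA {g : ℕ} (hg : g < 6) {m : ℕ} (hm : m < 2 ^ 78) : S.act hK (S.gA hK g) m = lin (aT g) m :=
  act_el (ids_lt.2 g hg) hm

theorem gA_mem {g : ℕ} (hg : g < 6) : S.gA hK g ∈ S.A hK := Subgroup.subset_closure ⟨g, hg, rfl⟩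

theorem orbit_spec {L : List ℕ} {P : List (ℕ × ℕ)} (h : orbitOK L P = true) (hL : ∀ i, L.getD i 0 < 2 ^ 78) :
    ∀ n < L.length, ∃ a ∈ S.A hK, S.act hK a (L.getD 0 0) = L.getD n 0 := by
  intro n
  induction n using Nat.strong_induction_on with
  | _ n ih =>
    intro hn
    rcases Nat.eq_zero_or_pos n with rfl | hpos
    · exact ⟨1, one_mem _, act_one (hL 0)⟩
    · simp only [orbitOK, List.all_eq_true, List.mem_range'_1, Bool.and_eq_true] at h
      obtain ⟨h1, h2, h3⟩ := h n (by omega)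
      obtain ⟨a, ha, e⟩ := ih _ (blt_lt h1) (by have := blt_lt h1; omega)
      refine ⟨S.gA hK (P.getD n (0, 0)).2 * a, mul_mem (gA_mem (blt_lt h2)) ha, ?_⟩
      rw [act_mul _ _ (hL 0), e, act_gA (blt_lt h2) (hL _)]
      exact beq_eq h3

theorem case_facts : good.length = 316 ∧ R.length = 105 ∧ V.length = 210 ∧ ∀ n < 316,
    lin FX (good.getD n 0) = 0 ∨ (∃ i < 105, lin FX (good.getD n 0) = R.getD i 0) ∨
      ∃ i < 210, lin FX (good.getD n 0) = V.getD i 0 := by
  have h := case_checked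
  simp only [caseOK, Bool.and_eq_true, List.all_eq_true, List.mem_range, Bool.or_eq_true] at h
  obtain ⟨a, b, c, d⟩ := h
  refine ⟨beq_eq a, beq_eq b, beq_eq c, fun n hn => ?_⟩
  rcases d n hn with ⟨-, e⟩ | ⟨-, e1, e2⟩ | ⟨-, e1, e2⟩
  exacts [Or.inl (beq_eq e), Or.inr (Or.inl ⟨_, blt_lt e1, beq_eq e2⟩), Or.inr (Or.inr ⟨_, blt_lt e1, beq_eq e2⟩)]

/-- A root vector has image of dimension at most 22. -/
theorem rk_absurd (g : Four.E K) {n : ℕ} (hn : n < 11) : S.act hK g eA ≠ (rk.getD n (0, [], [])).1 := by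
  intro he
  have h := rank_checked
  simp only [rankOK, List.all_eq_true, List.mem_range, Bool.and_eq_true] at h
  obtain ⟨-, hlen, hpre, hP⟩ := h n hn
  set z := (rk.getD n (0, [], [])).1 with hz
  set pre := (rk.getD n (0, [], [])).2.1 with hpr
  set P := (rk.getD n (0, [], [])).2.2 with hPd
  set pw : List ℕ := pre.map fun j => 2 ^ j with hpw
  have hlt : allLt 78 pw = true := by
    simp only [allLt, hpw, List.all_map, List.all_eq_true, Function.comp_apply]
    intro j hj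
    exact Nat.ble_eq_true_of_le (pow78_lt (blt_lt (hpre j hj)))
  have hget : ∀ i < 23, pw.getD i 0 = 2 ^ pre.getD i 0 := fun i hi => by
    have hl : i < pre.length := by rw [beq_eq hlen]; exact hi
    rw [hpw, List.getD_eq_getElem _ _ (by rw [List.length_map]; exact hl), List.getElem_map,
      List.getD_eq_getElem _ _ hl]
  have hrec : ∀ c < 2 ^ 23, lin P (br z (lin pw c)) = c := fun c hc => by
    refine IsAdd.ext (f := fun c => lin P (br z (lin pw c))) (g := fun c => c)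
      ((isAdd_lin P).comp ((isAdd_bil_right BR z).comp (isAdd_lin pw))) isAdd_id (fun i hi => ?_) hc
    show lin P (br z (lin pw (2 ^ i))) = 2 ^ i
    rw [lin_single _ (by omega), hget i hi]
    exact beq_eq (hP i hi)
  have hfac : ∀ c, br z (lin pw c) = S.act hK g (lin B22 (lin C22 (S.act hK g⁻¹ (lin pw c)))) := fun c => by
    have hw : lin pw c < 2 ^ 78 := lin_lt hlt c
    have hw' : S.act hK g⁻¹ (lin pw c) < 2 ^ 78 := act_lt hw
    rw [show lin B22 (lin C22 (S.act hK g⁻¹ (lin pw c))) = br eA (S.act hK g⁻¹ (lin pw c)) from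
      IsAdd.ext ((isAdd_lin _).comp (isAdd_lin _)) (isAdd_bil_right BR eA) (fun i hi => by
        show lin B22 (lin C22 (2 ^ i)) = br eA (2 ^ i)
        rw [lin_single _ (by omega)]
        exact (fix_facts.2.2 i hi).2.1) hw', act_br eA_lt hw', he, act_inv' _ hw]
  have hcard := Finset.card_le_card_of_injOn (s := Finset.range (2 ^ 23)) (t := Finset.range (2 ^ 22))
    (fun c => lin C22 (S.act hK g⁻¹ (lin pw c))) (fun c _ => Finset.mem_range.2 (lin_lt fix_facts.1.2.2.2.1 _))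
    fun c hc d hd e => by
      rw [← hrec c (Finset.mem_range.1 hc), ← hrec d (Finset.mem_range.1 hd), hfac c, hfac d]
      exact congrArg (fun t => lin P (S.act hK g (lin B22 t))) e
  rw [Finset.card_range, Finset.card_range] at hcard
  norm_num at hcard

theorem eA_ne : eA ≠ 0 := by decide +kernel

theorem ad_sq (g : Four.E K) {y : ℕ} (hy : y < 2 ^ 78) : br (S.act hK g eA) (br (S.act hK g eA) y) = 0 := by
  have h0 : ∀ w < 2 ^ 78, br eA (br eA w) = 0 := fun w hw =>
    IsAdd.ext (g := fun _ => 0) ((isAdd_bil_right BR eA).comp (isAdd_bil_right BR eA)) (fun _ _ => (Nat.xor_self 0).symm)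
      (fun i hi => (fix_facts.2.2 i hi).2.2) hw
  have hy' : S.act hK g⁻¹ y < 2 ^ 78 := act_lt hy
  rw [← act_inv' (S := S) (hK := hK) g hy, ← act_br eA_lt hy', ← act_br eA_lt (br_lt _ _), h0 _ hy', act_zero]

/-- Root vectors fixed by the element of order five are in the orbit of the complement. -/
theorem root_image {g : Four.E K} (hfix : S.act hK (S.x hK) (S.act hK g eA) = S.act hK g eA) :
    ∃ i < 105, S.act hK g eA = R.getD i 0 := by
  set v := S.act hK g eA with hv
  have hvlt : v < 2 ^ 78 := act_lt eA_lt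
  have hdec : ∀ m < 2 ^ 78, lin FX (lin FXco m) ^^^ lin FXQ (lin xT m ^^^ m) = m := fun m hm =>
    IsAdd.ext (f := fun m => lin FX (lin FXco m) ^^^ lin FXQ (lin xT m ^^^ m)) (g := fun m => m)
      (IsAdd.xor ((isAdd_lin _).comp (isAdd_lin _)) ((isAdd_lin _).comp (IsAdd.xor (isAdd_lin _) isAdd_id)))
      isAdd_id (fun i hi => by
        show lin FX (lin FXco (2 ^ i)) ^^^ lin FXQ (lin xT (2 ^ i) ^^^ 2 ^ i) = 2 ^ i
        rw [lin_single _ (by omega), lin_single _ (by omega)]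
        exact (fix_facts.2.2 i hi).1) hm
  have hc := hdec v hvlt
  rw [act_x hvlt] at hfix
  rw [hfix, Nat.xor_self, lin_zero, Nat.xor_zero] at hc
  have hclt : lin FXco v < 2 ^ 18 := lin_lt fix_facts.1.2.1 v
  have hz : Nat.testBit (zeros forms) (lin FXco v) = true := zeros_bit hclt forms fun p hp => by
    rw [formB, hc, hv, ad_sq g (pow78_lt (fix_facts.2.1.1 p hp)), Nat.zero_testBit]
  rw [beq_eq zeros_checked] at hz
  obtain ⟨n, hn, e⟩ := List.getElem_of_mem (setBits_bit _ hz)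
  have hn' : n < 316 := case_facts.1 ▸ hn
  have e' : good.getD n 0 = lin FXco v := by rw [List.getD_eq_getElem _ _ hn, e]
  obtain h | ⟨i, hi, h⟩ | ⟨i, hi, h⟩ := case_facts.2.2.2 n hn' <;> rw [e', hc] at h
  · exact absurd (act_inj g eA_lt (by norm_num) (h.trans (act_zero g).symm)) eA_ne
  · exact ⟨i, hi, h⟩
  · obtain ⟨a, -, ha⟩ := orbit_spec (S := S) (hK := hK) orbit_V V_lt i (case_facts.2.2.1 ▸ hi)
    refine absurd ?_ (rk_absurd (S := S) (hK := hK) (a⁻¹ * g) (show 0 < 11 by norm_num))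
    rw [act_mul _ _ eA_lt, ← hv, h, ← ha, act_inv _ (V_lt 0)]
    exact beq_eq vP_checked

theorem R_orbit {i : ℕ} (hi : i < 105) : ∃ a ∈ S.A hK, S.act hK a eA = R.getD i 0 :=
  orbit_spec orbit_R R_lt i (case_facts.2.1 ▸ hi)

end CfsgLib.Lie.E6Two
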